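/-
Odd order project, base library 1: conjugation, transport along injective homomorphisms.
-/
import Cfsg.Agent.FT.Defs

set_option autoImplicit false

namespace Cfsg.Agent.FT

open Subgroup Cfsg Cfsg.Agent
open scoped commutatorElement Pointwise

universe u

variable {G : Type u} [Group G]

/-! ### Elementary facts on `𝐍`, `𝐂` -/

theorem mem_cent1 {x g : G} : g ∈ 𝐂[x] ↔ x * g = g * x := by
  rw [mem_centralizer_singleton_iff]; exact eq_comm

theorem mem_cent1_comm {x g : G} : g ∈ 𝐂[x] ↔ x ∈ 𝐂[g] := by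
  rw [mem_cent1, mem_cent1]; exact eq_comm

theorem mem_cent1_iff_commute {x g : G} : g ∈ 𝐂[x] ↔ Commute x g := mem_cent1

theorem mem_cent1_iff_conj {x g : G} : g ∈ 𝐂[x] ↔ g * x * g⁻¹ = x := by
  rw [mem_cent1, mul_inv_eq_iff_eq_mul]; exact eq_comm

theorem self_mem_cent1 (x : G) : x ∈ 𝐂[x] := mem_cent1.2 rfl

theorem mem_cent {H : Subgroup G} {g : G} : g ∈ 𝐂(H) ↔ ∀ h ∈ H, h * g = g * h :=
  mem_centralizer_iff

theorem mem_cent_iff_cent1 {H : Subgroup G} {g : G} : g ∈ 𝐂(H) ↔ H ≤ 𝐂[g] :=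
  ⟨fun h x hx => mem_cent1.2 (h x hx).symm, fun h x hx => (mem_cent1.1 (h hx)).symm⟩

theorem cent_comm {H K : Subgroup G} : H ≤ 𝐂(K) ↔ K ≤ 𝐂(H) := le_centralizer_iff

theorem cent_anti {H K : Subgroup G} (h : H ≤ K) : 𝐂(K) ≤ 𝐂(H) := centralizer_le h

theorem cent_le_cent1 {H : Subgroup G} {x : G} (h : x ∈ H) : 𝐂(H) ≤ 𝐂[x] :=
  centralizer_le (Set.singleton_subset_iff.2 h)

theorem cent_zpowers (x : G) : 𝐂(zpowers x) = 𝐂[x] := by
  refine le_antisymm (cent_le_cent1 (mem_zpowers x)) fun g hg => ?_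
  rw [mem_cent_iff_cent1, zpowers_le]
  exact mem_cent1_comm.1 hg

theorem cent_le_norm (H : Subgroup G) : 𝐂(H) ≤ 𝐍(H) := H1.le_normalizer_of_le_centralizer le_rfl

theorem le_norm_self (H : Subgroup G) : H ≤ 𝐍(H) := le_normalizer

theorem cent_sup (H K : Subgroup G) : 𝐂(H ⊔ K) = 𝐂(H) ⊓ 𝐂(K) := by
  refine le_antisymm (le_inf (cent_anti le_sup_left) (cent_anti le_sup_right)) ?_
  rw [cent_comm, sup_le_iff]
  exact ⟨cent_comm.1 inf_le_left, cent_comm.1 inf_le_right⟩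

theorem cent_bot : 𝐂((⊥ : Subgroup G)) = ⊤ := by
  rw [eq_top_iff, cent_comm]; exact bot_le

theorem norm_bot : 𝐍((⊥ : Subgroup G)) = ⊤ := eq_top_iff.2 (cent_bot.ge.trans (cent_le_norm _))

theorem norm_top : 𝐍((⊤ : Subgroup G)) = ⊤ := eq_top_iff.2 le_normalizer

theorem cent1_one : 𝐂[(1 : G)] = ⊤ := by
  rw [eq_top_iff]; intro g _; rw [mem_cent1]; simp

theorem cent1_le_cent1_zpow (x : G) (n : ℤ) : 𝐂[x] ≤ 𝐂[x ^ n] := by
  rw [← cent_zpowers x]; exact cent_le_cent1 (zpow_mem (mem_zpowers x) n)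

theorem cent1_le_cent1_pow (x : G) (n : ℕ) : 𝐂[x] ≤ 𝐂[x ^ n] := by
  rw [← cent_zpowers x]; exact cent_le_cent1 (pow_mem (mem_zpowers x) n)

theorem cent1_le_cent1_of_mem_zpowers {x y : G} (h : y ∈ zpowers x) : 𝐂[x] ≤ 𝐂[y] := by
  rw [← cent_zpowers x]; exact cent_le_cent1 h

theorem cent1_inv (x : G) : 𝐂[x⁻¹] = 𝐂[x] := by
  rw [← cent_zpowers, ← cent_zpowers, zpowers_inv]

theorem isMulComm_iff_le_cent {H : Subgroup G} : IsMulCommutative H ↔ H ≤ 𝐂(H) :=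
  le_centralizer_iff_isMulCommutative.symm

theorem isMulComm_iff_comm_eq_bot {H : Subgroup G} : IsMulCommutative H ↔ ⁅H, H⁆ = ⊥ := by
  rw [isMulComm_iff_le_cent, commutator_eq_bot_iff_le_centralizer]

theorem isMulComm_of_le {H K : Subgroup G} (h : H ≤ K) (hK : IsMulCommutative K) :
    IsMulCommutative H :=
  isMulComm_iff_le_cent.2 (h.trans ((isMulComm_iff_le_cent.1 hK).trans (cent_anti h)))

theorem isMulComm_of_isCyclic {H : Subgroup G} (h : IsCyclic H) : IsMulCommutative H :=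
  IsCyclic.commutative

theorem isMulComm_center (H : Subgroup G) : IsMulCommutative ↥𝐙(H) :=
  isMulComm_iff_le_cent.2 (inf_le_right.trans (cent_anti inf_le_left))

theorem isMulComm_sup {A B : Subgroup G} (hA : IsMulCommutative A) (hB : IsMulCommutative B)
    (h : B ≤ 𝐂(A)) : IsMulCommutative ↥(A ⊔ B) := by
  rw [isMulComm_iff_le_cent, cent_sup, sup_le_iff, le_inf_iff, le_inf_iff]
  exact ⟨⟨isMulComm_iff_le_cent.1 hA, cent_comm.1 h⟩, h, isMulComm_iff_le_cent.1 hB⟩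

theorem comm_eq_bot_iff {A B : Subgroup G} : ⁅A, B⁆ = ⊥ ↔ A ≤ 𝐂(B) :=
  commutator_eq_bot_iff_le_centralizer

theorem comm_le_left_iff {A B : Subgroup G} : ⁅A, B⁆ ≤ A ↔ B ≤ 𝐍(A) :=
  le_normalizer_iff_commutator_le_left.symm

theorem comm_le_right_iff {A B : Subgroup G} : ⁅A, B⁆ ≤ B ↔ A ≤ 𝐍(B) := by
  rw [Subgroup.commutator_comm]; exact comm_le_left_iff

theorem der_le (H : Subgroup G) : ⁅H, H⁆ ≤ H := comm_le_left_iff.2 le_normalizer

theorem norm_le_norm_der (H : Subgroup G) : 𝐍(H) ≤ 𝐍(⁅H, H⁆) :=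
  H1.le_normalizer_commutator le_rfl le_rfl

theorem der_normal (H : Subgroup G) : ⁅H, H⁆ ⊲ H :=
  ⟨der_le H, le_normalizer.trans (norm_le_norm_der H)⟩

theorem norm_le_norm_center (H : Subgroup G) : 𝐍(H) ≤ 𝐍(𝐙(H)) :=
  H1.le_normalizer_inf le_rfl (H1.normalizer_le_normalizer_centralizer H)

theorem center_normal (H : Subgroup G) : 𝐙(H) ⊲ H :=
  ⟨inf_le_left, le_normalizer.trans (norm_le_norm_center H)⟩

/-- A subgroup containing the derived group is normal. -/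
theorem le_norm_of_der_le {H K : Subgroup G} (h1 : ⁅H, H⁆ ≤ K) (h2 : K ≤ H) : H ≤ 𝐍(K) :=
  comm_le_left_iff.1 ((commutator_mono h2 le_rfl).trans h1)

theorem map_subtype_center (H : Subgroup G) : (center H).map H.subtype = 𝐙(H) := by
  ext x
  simp only [mem_map, mem_center_iff, mem_inf, mem_centralizer_iff, SetLike.mem_coe]
  constructor
  · rintro ⟨y, hy, rfl⟩
    exact ⟨y.2, fun h hh => congrArg Subtype.val (hy ⟨h, hh⟩)⟩
  · rintro ⟨hx, h⟩
    exact ⟨⟨x, hx⟩, fun g => Subtype.ext (h g g.2), rfl⟩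

theorem map_subtype_der (H : Subgroup G) : (_root_.commutator H).map H.subtype = ⁅H, H⁆ := by
  rw [commutator_def, map_commutator, ← MonoidHom.range_eq_map, range_subtype]

theorem inf_normal {N H K : Subgroup G} (h : N ⊲ H) (hK : K ≤ H) : N ⊓ K ⊲ K :=
  ⟨inf_le_right, H1.le_normalizer_inf (hK.trans h.2) le_normalizer⟩

theorem normal_of_le {N H K : Subgroup G} (h : N ⊲ H) (hN : N ≤ K) (hK : K ≤ H) : N ⊲ K :=
  ⟨hN, hK.trans h.2⟩

theorem normal_iff_top_le {N : Subgroup G} : N.Normal ↔ ⊤ ≤ 𝐍(N) := by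
  rw [top_le_iff, normalizer_eq_top_iff]

theorem isCyclic_of_le {H K : Subgroup G} (h : H ≤ K) (hK : IsCyclic K) : IsCyclic H :=
  isCyclic_of_injective (inclusion h) (inclusion_injective h)

theorem isCyclic_iff_zpowers {H : Subgroup G} : IsCyclic H ↔ ∃ x : G, zpowers x = H :=
  H.isCyclic_iff_exists_zpowers_eq_top

/-! ### Conjugation -/

section conj

variable {H K : Subgroup G} {g x : G}

theorem mem_conj : x ∈ H ^ᵍ g ↔ g⁻¹ * x * g ∈ H := H1.mem_map_conj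

theorem mem_conj' : x ∈ H ^ᵍ g ↔ ∃ h ∈ H, g * h * g⁻¹ = x := Iff.rfl

theorem conj_mem_conj (hx : x ∈ H) (g : G) : g * x * g⁻¹ ∈ H ^ᵍ g := ⟨x, hx, rfl⟩

theorem conj_mem_conj_iff : g * x * g⁻¹ ∈ H ^ᵍ g ↔ x ∈ H := by
  rw [mem_conj]; simp [mul_assoc]

theorem conj_conj (H : Subgroup G) (g h : G) : (H ^ᵍ h) ^ᵍ g = H ^ᵍ (g * h) :=
  H1.map_conj_map_conj H g h

theorem conj_one (H : Subgroup G) : H ^ᵍ (1 : G) = H := H1.map_conj_one H

theorem conj_conj_inv (H : Subgroup G) (g : G) : (H ^ᵍ g) ^ᵍ g⁻¹ = H := by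
  rw [conj_conj, inv_mul_cancel, conj_one]

theorem conj_inv_conj (H : Subgroup G) (g : G) : (H ^ᵍ g⁻¹) ^ᵍ g = H := by
  rw [conj_conj, mul_inv_cancel, conj_one]

theorem conj_eq_self_iff : H ^ᵍ g = H ↔ g ∈ 𝐍(H) := H1.map_conj_eq_self_iff

theorem conj_eq_of_mem_norm (h : g ∈ 𝐍(H)) : H ^ᵍ g = H := conj_eq_self_iff.2 h

theorem conj_eq_of_mem (h : g ∈ H) : H ^ᵍ g = H := conj_eq_self_iff.2 (le_normalizer h)

theorem conj_injective (g : G) :
    Function.Injective (MulEquiv.toMonoidHom (MulAut.conj g)) := (MulAut.conj g).injective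

theorem conj_mono (h : H ≤ K) (g : G) : H ^ᵍ g ≤ K ^ᵍ g := map_mono h

theorem conj_le_conj_iff : H ^ᵍ g ≤ K ^ᵍ g ↔ H ≤ K := map_le_map_iff_of_injective (conj_injective g)

theorem conj_inj : H ^ᵍ g = K ^ᵍ g ↔ H = K := (map_injective (conj_injective g)).eq_iff

theorem conj_lt_conj_iff : H ^ᵍ g < K ^ᵍ g ↔ H < K := by
  rw [lt_iff_le_and_ne, lt_iff_le_and_ne, conj_le_conj_iff, Ne, conj_inj]

theorem conj_le_iff : H ^ᵍ g ≤ K ↔ H ≤ K ^ᵍ g⁻¹ := by
  rw [← conj_le_conj_iff (g := g⁻¹), conj_conj_inv]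

theorem le_conj_iff : H ≤ K ^ᵍ g ↔ H ^ᵍ g⁻¹ ≤ K := by
  rw [conj_le_iff, inv_inv]

theorem conj_eq_iff : H ^ᵍ g = K ↔ H = K ^ᵍ g⁻¹ := by
  rw [← conj_inj (g := g⁻¹), conj_conj_inv]

theorem conj_le_of_mem (h : H ≤ K) (hg : g ∈ K) : H ^ᵍ g ≤ K := H1.map_conj_le_of_mem h hg

theorem conj_le_of_mem_norm (h : H ≤ K) (hg : g ∈ 𝐍(K)) : H ^ᵍ g ≤ K :=
  H1.map_conj_le_of_mem_normalizer h hg

theorem mem_norm_of_conj_le [Finite G] (h : H ^ᵍ g ≤ H) : g ∈ 𝐍(H) :=
  conj_eq_self_iff.1 (H1.eq_of_le_of_card_le h (H1.card_map_conj H g).ge)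

theorem card_conj (H : Subgroup G) (g : G) : 𝐨(H ^ᵍ g) = 𝐨(H) := H1.card_map_conj H g

theorem relIndex_conj (H K : Subgroup G) (g : G) :
    (H ^ᵍ g).relIndex (K ^ᵍ g) = H.relIndex K := H1.relIndex_map_conj H K g

theorem index_conj (H : Subgroup G) (g : G) : (H ^ᵍ g).index = H.index :=
  H2.index_conj_smul H g

theorem conj_inf (H K : Subgroup G) (g : G) : (H ⊓ K) ^ᵍ g = H ^ᵍ g ⊓ K ^ᵍ g :=
  map_inf H K _ (conj_injective g)

theorem conj_sup (H K : Subgroup G) (g : G) : (H ⊔ K) ^ᵍ g = H ^ᵍ g ⊔ K ^ᵍ g := map_sup H K _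

theorem conj_bot (g : G) : (⊥ : Subgroup G) ^ᵍ g = ⊥ := map_bot _

theorem conj_top (g : G) : (⊤ : Subgroup G) ^ᵍ g = ⊤ :=
  map_top_of_surjective _ (MulAut.conj g).surjective

theorem conj_eq_bot_iff : H ^ᵍ g = ⊥ ↔ H = ⊥ := map_eq_bot_iff_of_injective H (conj_injective g)

theorem conj_eq_top_iff : H ^ᵍ g = ⊤ ↔ H = ⊤ := by
  rw [conj_eq_iff, conj_top]

theorem conj_comm (H K : Subgroup G) (g : G) : ⁅H, K⁆ ^ᵍ g = ⁅H ^ᵍ g, K ^ᵍ g⁆ :=
  map_commutator H K _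

theorem norm_conj (H : Subgroup G) (g : G) : 𝐍(H ^ᵍ g) = 𝐍(H) ^ᵍ g := H1.normalizer_map_conj H g

theorem cent_conj (H : Subgroup G) (g : G) : 𝐂(H ^ᵍ g) = 𝐂(H) ^ᵍ g := H1.centralizer_map_conj H g

theorem zpowers_conj (x g : G) : zpowers (g * x * g⁻¹) = zpowers x ^ᵍ g :=
  (MonoidHom.map_zpowers (MulEquiv.toMonoidHom (MulAut.conj g)) x).symm

theorem cent1_conj (x g : G) : 𝐂[g * x * g⁻¹] = 𝐂[x] ^ᵍ g := by
  rw [← cent_zpowers, ← cent_zpowers, zpowers_conj, cent_conj]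

theorem conj_le_norm_iff : H ^ᵍ g ≤ 𝐍(K ^ᵍ g) ↔ H ≤ 𝐍(K) := by rw [norm_conj, conj_le_conj_iff]

theorem conj_le_cent_iff : H ^ᵍ g ≤ 𝐂(K ^ᵍ g) ↔ H ≤ 𝐂(K) := by rw [cent_conj, conj_le_conj_iff]

theorem isCoatom_conj (h : IsCoatom H) (g : G) : IsCoatom (H ^ᵍ g) := H2.isCoatom_conj_smul h g

theorem isCoatom_conj_iff : IsCoatom (H ^ᵍ g) ↔ IsCoatom H :=
  ⟨fun h => by simpa only [conj_conj_inv] using isCoatom_conj h g⁻¹, fun h => isCoatom_conj h g⟩

/-- Subgroups of a cyclic subgroup are normalized by its normalizer. -/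
theorem norm_le_norm_of_le_cyclic [Finite G] {C X : Subgroup G} (hC : IsCyclic C) (h : X ≤ C) :
    𝐍(C) ≤ 𝐍(X) := by
  obtain ⟨c, rfl⟩ := isCyclic_iff_zpowers.1 hC
  intro g hg
  refine mem_norm_of_conj_le ?_
  rintro _ ⟨x, hx, rfl⟩
  obtain ⟨k, rfl⟩ := h hx
  obtain ⟨m, hm⟩ := (mem_normalizer_iff.1 hg c).1 (mem_zpowers c)
  have : (MulEquiv.toMonoidHom (MulAut.conj g)) (c ^ k) = (c ^ k) ^ m := by
    rw [map_zpow, ← zpow_mul, mul_comm, zpow_mul]
    congr 1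
    exact hm.symm
  exact this ▸ zpow_mem hx m

theorem Conj.refl (H : Subgroup G) : Conj H H := ⟨1, (conj_one H).symm⟩

theorem Conj.symm (h : Conj H K) : Conj K H := by
  obtain ⟨g, rfl⟩ := h; exact ⟨g⁻¹, (conj_conj_inv H g).symm⟩

theorem Conj.trans {L : Subgroup G} (h : Conj H K) (h' : Conj K L) : Conj H L := by
  obtain ⟨g, rfl⟩ := h; obtain ⟨g', rfl⟩ := h'; exact ⟨g' * g, conj_conj H g' g⟩

theorem Conj.conj (H : Subgroup G) (g : G) : Conj H (H ^ᵍ g) := ⟨g, rfl⟩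

end conj

/-! ### Transport along injective homomorphisms -/

section map

variable {G' : Type*} [Group G'] {f : G →* G'} (hf : Function.Injective f)
include hf

theorem map_map_subtype_eq (H : Subgroup G) {K : Subgroup H} {K' : Subgroup (H.map f)}
    (h : K.map (H.equivMapOfInjective f hf : H →* H.map f) = K') :
    K'.map (H.map f).subtype = (K.map H.subtype).map f := by
  subst h; rw [map_map, map_map]; rfl

theorem card_map_inj (H : Subgroup G) : 𝐨(H.map f) = 𝐨(H) := card_map_of_injective hf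

theorem map_le_norm_iff {H K : Subgroup G} : H.map f ≤ 𝐍(K.map f) ↔ H ≤ 𝐍(K) := by
  rw [← comm_le_left_iff, ← comm_le_left_iff, ← map_commutator, map_le_map_iff_of_injective hf]

theorem map_le_cent_iff {H K : Subgroup G} : H.map f ≤ 𝐂(K.map f) ↔ H ≤ 𝐂(K) := by
  rw [← comm_eq_bot_iff, ← comm_eq_bot_iff, ← map_commutator, map_eq_bot_iff_of_injective _ hf]

theorem map_inf_cent (H K : Subgroup G) : (H ⊓ 𝐂(K)).map f = H.map f ⊓ 𝐂(K.map f) := by
  refine le_antisymm (le_inf (map_mono inf_le_left) ((map_le_cent_iff hf).2 inf_le_right)) ?_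
  rintro _ ⟨⟨x, hx, rfl⟩, h⟩
  refine ⟨x, ⟨hx, ?_⟩, rfl⟩
  have : (zpowers x).map f ≤ 𝐂(K.map f) := by rw [MonoidHom.map_zpowers, zpowers_le]; exact h
  exact (map_le_cent_iff hf).1 this (mem_zpowers x)

theorem map_inf_cent1 (H : Subgroup G) (x : G) : (H ⊓ 𝐂[x]).map f = H.map f ⊓ 𝐂[f x] := by
  rw [← cent_zpowers, ← cent_zpowers, map_inf_cent hf, MonoidHom.map_zpowers]

theorem map_inf_norm (H K : Subgroup G) : (H ⊓ 𝐍(K)).map f = H.map f ⊓ 𝐍(K.map f) := by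
  refine le_antisymm (le_inf (map_mono inf_le_left) ((map_le_norm_iff hf).2 inf_le_right)) ?_
  rintro _ ⟨⟨x, hx, rfl⟩, h⟩
  refine ⟨x, ⟨hx, ?_⟩, rfl⟩
  have : (zpowers x).map f ≤ 𝐍(K.map f) := by rw [MonoidHom.map_zpowers, zpowers_le]; exact h
  exact (map_le_norm_iff hf).1 this (mem_zpowers x)

theorem isCyclic_map_iff {H : Subgroup G} : IsCyclic (H.map f) ↔ IsCyclic H :=
  (H.equivMapOfInjective f hf).isCyclic.symm

theorem isPGroup_map_iff {p : ℕ} {H : Subgroup G} : IsPGroup p (H.map f) ↔ IsPGroup p H :=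
  ⟨fun h => h.of_equiv (H.equivMapOfInjective f hf).symm, fun h => h.map f⟩

theorem isMulComm_map_iff {H : Subgroup G} : IsMulCommutative (H.map f) ↔ IsMulCommutative H := by
  rw [isMulComm_iff_le_cent, isMulComm_iff_le_cent, map_le_cent_iff hf]

theorem isNilpotent_map_iff {H : Subgroup G} :
    Group.IsNilpotent (H.map f) ↔ Group.IsNilpotent H :=
  ⟨fun _ => Group.nilpotent_of_mulEquiv (H.equivMapOfInjective f hf).symm,
    fun _ => Group.nilpotent_of_mulEquiv (H.equivMapOfInjective f hf)⟩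

theorem isSolvable_map_iff {H : Subgroup G} : Group.IsSolvable (H.map f) ↔ Group.IsSolvable H :=
  ⟨fun _ => L.isSolvable_of_mulEquiv (H.equivMapOfInjective f hf).symm,
    fun _ => L.isSolvable_of_mulEquiv (H.equivMapOfInjective f hf)⟩

theorem isZGroup_map_iff [Finite G] {H : Subgroup G} : IsZGroup (H.map f) ↔ IsZGroup H :=
  ⟨fun _ => IsZGroup.of_injective (f := (H.equivMapOfInjective f hf).toMonoidHom)
      (H.equivMapOfInjective f hf).injective,
    fun _ => IsZGroup.of_injective (f := (H.equivMapOfInjective f hf).symm.toMonoidHom)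
      (H.equivMapOfInjective f hf).symm.injective⟩

theorem isElemAb_map_iff {p : ℕ} {H : Subgroup G} :
    IsElementaryAbelian p (H.map f) ↔ IsElementaryAbelian p H := by
  unfold IsElementaryAbelian
  rw [isMulComm_map_iff hf]
  refine and_congr_right fun _ => ⟨fun h a ha => hf ?_, ?_⟩
  · rw [map_pow, map_one]; exact h _ (mem_map_of_mem f ha)
  · rintro h _ ⟨a, ha, rfl⟩; rw [← map_pow, h a ha, map_one]

theorem isPiSubgroup_map_iff {π : Set ℕ} {H : Subgroup G} :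
    IsPiSubgroup π (H.map f) ↔ IsPiSubgroup π H := by
  unfold IsPiSubgroup; rw [card_map_inj hf]

theorem exponent_map (H : Subgroup G) : Monoid.exponent (H.map f) = Monoid.exponent H :=
  (Monoid.exponent_eq_of_mulEquiv (H.equivMapOfInjective f hf)).symm

theorem piOf_map (H : Subgroup G) : piOf (H.map f) = piOf H := by
  unfold piOf; rw [card_map_inj hf]

theorem isPiHallOf_map_iff {π : Set ℕ} {H M : Subgroup G} :
    IsPiHallOf π (H.map f) (M.map f) ↔ IsPiHallOf π H M := by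
  unfold IsPiHallOf
  rw [card_map_inj hf, relIndex_map_map_of_injective H M hf, map_le_map_iff_of_injective hf]

theorem isHallIn_map_iff {H M : Subgroup G} : IsHallIn (H.map f) (M.map f) ↔ IsHallIn H M := by
  unfold IsHallIn
  rw [card_map_inj hf, relIndex_map_map_of_injective H M hf, map_le_map_iff_of_injective hf]

theorem isSyl_map_iff {p : ℕ} {P M : Subgroup G} : IsSyl p (P.map f) (M.map f) ↔ IsSyl p P M := by
  constructor
  · rintro ⟨h1, h2, h3⟩
    exact ⟨(map_le_map_iff_of_injective hf).1 h1, (isPGroup_map_iff hf).1 h2,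
      by rwa [relIndex_map_map_of_injective P M hf] at h3⟩
  · rintro ⟨h1, h2, h3⟩
    exact ⟨map_mono h1, h2.map f, by rwa [relIndex_map_map_of_injective P M hf]⟩

theorem isElem_map_iff {p n : ℕ} {A : Subgroup G} : IsElem p n (A.map f) ↔ IsElem p n A := by
  unfold IsElem; rw [isElemAb_map_iff hf, card_map_inj hf]

theorem omegaOne_map (p : ℕ) (H : Subgroup G) : omegaOne p (H.map f) = (omegaOne p H).map f := by
  unfold omegaOne
  rw [MonoidHom.map_closure]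
  congr 1
  ext y
  constructor
  · rintro ⟨⟨x, hx, rfl⟩, h⟩
    exact ⟨x, ⟨hx, hf (by rw [map_pow, map_one]; exact h)⟩, rfl⟩
  · rintro ⟨x, ⟨hx, h⟩, rfl⟩
    exact ⟨mem_map_of_mem f hx, by rw [← map_pow, h, map_one]⟩

theorem frattini_map (H : Subgroup G) : 𝚽(H.map f) = (𝚽(H)).map f := by
  refine map_map_subtype_eq hf H (le_antisymm ?_ ?_)
  · exact map_le_iff_le_comap.2
      (frattini_le_comap_frattini_of_surjective (H.equivMapOfInjective f hf).surjective)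
  · intro x hx
    have := frattini_le_comap_frattini_of_surjective
      (φ := (H.equivMapOfInjective f hf).symm.toMonoidHom)
      (H.equivMapOfInjective f hf).symm.surjective hx
    exact ⟨_, this, (H.equivMapOfInjective f hf).apply_symm_apply x⟩

variable [Finite G]

theorem piCoreOf_map (π : Set ℕ) (H : Subgroup G) :
    piCoreOf π (H.map f) = (piCoreOf π H).map f :=
  map_map_subtype_eq hf H (L.map_piCore_equiv π _)

theorem fittingOf_map (H : Subgroup G) : fittingOf (H.map f) = (fittingOf H).map f :=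
  map_map_subtype_eq hf H (L.map_fittingSubgroup_equiv _)

end map

end Cfsg.Agent.FT
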