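/-
Odd order project, base library 2: π-groups, π-elements, Sylow and Hall subgroups, cores.
-/
import Cfsg.Agent.FT.B.Conj
import Cfsg.Agent.H6.PiElem
import Cfsg.Agent.H6.NilpHall
import Cfsg.Agent.H8.PComplement

set_option autoImplicit false

namespace Cfsg.Agent.FT

open Subgroup Cfsg Cfsg.Agent
open scoped commutatorElement Pointwise

universe u

variable {G : Type u} [Group G]

/-! ### Orders -/

theorem card_dvd_of_le {H K : Subgroup G} (h : H ≤ K) : 𝐨(H) ∣ 𝐨(K) := Subgroup.card_dvd_of_le h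

theorem card_ne_zero [Finite G] (H : Subgroup G) : 𝐨(H) ≠ 0 := Nat.card_pos.ne'

theorem relIndex_dvd_card_of_le {H K : Subgroup G} (h : H ≤ K) : H.relIndex K ∣ 𝐨(K) :=
  Dvd.intro_left _ (H1.card_mul_relIndex h)

theorem relIndex_dvd_card' (H K : Subgroup G) : H.relIndex K ∣ 𝐨(K) :=
  Dvd.intro_left _ (H1.card_inf_mul_relIndex H K)

theorem orderOf_dvd_card_of_mem {H : Subgroup G} {x : G} (h : x ∈ H) : orderOf x ∣ 𝐨(H) :=
  Subgroup.orderOf_dvd_natCard H h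

theorem exists_prime_dvd_card [Finite G] {H : Subgroup G} (h : H ≠ ⊥) :
    ∃ p : ℕ, p.Prime ∧ p ∣ 𝐨(H) :=
  Nat.exists_prime_and_dvd fun h1 => h (card_eq_one.1 h1)

theorem exists_mem_orderOf_eq_prime [Finite G] {p : ℕ} (hp : p.Prime) {H : Subgroup G}
    (h : p ∣ 𝐨(H)) : ∃ x ∈ H, orderOf x = p := by
  haveI := Fact.mk hp
  obtain ⟨x, hx⟩ := exists_prime_orderOf_dvd_card' p h
  exact ⟨x, x.2, by rw [orderOf_coe, hx]⟩

theorem exists_le_card_eq_prime [Finite G] {p : ℕ} (hp : p.Prime) {H : Subgroup G}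
    (h : p ∣ 𝐨(H)) : ∃ X : Subgroup G, X ≤ H ∧ 𝐨(X) = p := by
  obtain ⟨x, hx, ho⟩ := exists_mem_orderOf_eq_prime hp h
  exact ⟨zpowers x, zpowers_le.2 hx, by rw [Nat.card_zpowers, ho]⟩

theorem exists_le_card_prime [Finite G] {H : Subgroup G} (h : H ≠ ⊥) :
    ∃ X : Subgroup G, X ≤ H ∧ 𝐨(X).Prime := by
  obtain ⟨p, hp, hd⟩ := exists_prime_dvd_card h
  obtain ⟨X, hX, hc⟩ := exists_le_card_eq_prime hp hd
  exact ⟨X, hX, hc ▸ hp⟩

theorem ne_bot_of_card_prime {X : Subgroup G} (h : 𝐨(X).Prime) : X ≠ ⊥ := by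
  rintro rfl; rw [card_bot] at h; exact Nat.not_prime_one h

theorem ne_bot_of_prime_dvd [Finite G] {X : Subgroup G} {p : ℕ} (hp : p.Prime) (h : p ∣ 𝐨(X)) :
    X ≠ ⊥ := by
  rintro rfl; rw [card_bot] at h; exact hp.not_dvd_one h

theorem eq_bot_or_eq_of_card_prime {X Y : Subgroup G} (h : 𝐨(X).Prime) (hY : Y ≤ X) :
    Y = ⊥ ∨ Y = X := by
  haveI : Finite X := Nat.finite_of_card_ne_zero h.ne_zero
  rcases (Nat.dvd_prime h).1 (card_dvd_of_le hY) with h1 | h1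
  · exact Or.inl (card_eq_one.1 h1)
  · exact Or.inr (eq_of_le_of_card_ge hY h1.ge)

theorem inf_eq_bot_or_le_of_card_prime {X : Subgroup G} (h : 𝐨(X).Prime) (K : Subgroup G) :
    X ⊓ K = ⊥ ∨ X ≤ K :=
  (eq_bot_or_eq_of_card_prime h (inf_le_left (b := K))).imp_right inf_eq_left.1

theorem zpowers_eq_of_card_prime {X : Subgroup G} (h : 𝐨(X).Prime) {x : G} (hx : x ∈ X)
    (h1 : x ≠ 1) : zpowers x = X :=
  (eq_bot_or_eq_of_card_prime h (zpowers_le.2 hx)).resolve_left (zpowers_ne_bot.2 h1)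

theorem isCyclic_of_card_prime {X : Subgroup G} (h : 𝐨(X).Prime) : IsCyclic X := by
  haveI := Fact.mk h; exact isCyclic_of_prime_card rfl

theorem cent1_eq_of_card_prime {X : Subgroup G} (h : 𝐨(X).Prime) {x : G} (hx : x ∈ X)
    (h1 : x ≠ 1) : 𝐂[x] = 𝐂(X) := by
  rw [← cent_zpowers, zpowers_eq_of_card_prime h hx h1]

theorem isPGroup_of_card_eq {p n : ℕ} {X : Subgroup G} (h : 𝐨(X) = p ^ n) : IsPGroup p X :=
  IsPGroup.of_card h

theorem isPGroup_of_card_prime {p : ℕ} {X : Subgroup G} (h : 𝐨(X) = p) : IsPGroup p X :=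
  IsPGroup.of_card (n := 1) (by rw [h, pow_one])

theorem exists_card_eq_pow [Finite G] {p : ℕ} (hp : p.Prime) {P : Subgroup G} (h : IsPGroup p P) :
    ∃ n : ℕ, 𝐨(P) = p ^ n := by
  haveI := Fact.mk hp; exact IsPGroup.iff_card.1 h

theorem prime_dvd_card_of_isPGroup [Finite G] {p : ℕ} (hp : p.Prime) {P : Subgroup G}
    (h : IsPGroup p P) (h1 : P ≠ ⊥) : p ∣ 𝐨(P) := by
  obtain ⟨n, hn⟩ := exists_card_eq_pow hp h
  rcases n with _ | n
  · exact absurd (card_eq_one.1 (by simpa using hn)) h1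
  · rw [hn]; exact dvd_pow_self p n.succ_ne_zero

theorem eq_of_prime_dvd_card_of_isPGroup [Finite G] {p q : ℕ} (hp : p.Prime) (hq : q.Prime)
    {P : Subgroup G} (h : IsPGroup p P) (hd : q ∣ 𝐨(P)) : q = p := by
  obtain ⟨n, hn⟩ := exists_card_eq_pow hp h
  exact (Nat.prime_dvd_prime_iff_eq hq hp).1 (hq.dvd_of_dvd_pow (hn ▸ hd))

theorem isNilpotent_of_isPGroup [Finite G] {p : ℕ} (hp : p.Prime) {P : Subgroup G}
    (h : IsPGroup p P) : Group.IsNilpotent P := by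
  haveI := Fact.mk hp; exact h.isNilpotent

theorem isPGroup_sup {p : ℕ} {A B : Subgroup G} (hA : IsPGroup p A) (hB : IsPGroup p B)
    (h : A ≤ 𝐍(B)) : IsPGroup p ↥(A ⊔ B) := hA.to_sup_of_normal_right' hB h

theorem coprime_card_of_isPGroup [Finite G] {p q : ℕ} (hp : p.Prime) (hq : q.Prime) (hpq : p ≠ q)
    {P Q : Subgroup G} (hP : IsPGroup p P) (hQ : IsPGroup q Q) : 𝐨(P).Coprime 𝐨(Q) := by
  haveI := Fact.mk hp; haveI := Fact.mk hq
  exact IsPGroup.coprime_card_of_ne p q hpq P Q hP hQ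

theorem isNilpotent_of_le {A B : Subgroup G} (h : A ≤ B) (hB : Group.IsNilpotent B) :
    Group.IsNilpotent A := L.isNilpotent_of_le h

theorem isNilpotent_of_isMulComm {A : Subgroup G} (h : IsMulCommutative A) :
    Group.IsNilpotent A := L.isNilpotent_of_isMulCommutative A

theorem isSolvable_of_isNilpotent {A : Subgroup G} (h : Group.IsNilpotent A) :
    Group.IsSolvable A := inferInstance

/-- A nontrivial normal subgroup of a nilpotent group meets the centre. -/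
theorem inf_center_ne_bot {N K : Subgroup G} (hK : Group.IsNilpotent K) (hN : N ⊲ K)
    (h : N ≠ ⊥) : N ⊓ 𝐂(K) ≠ ⊥ := L.inf_centralizer_ne_bot_of_isNilpotent hN.1 hN.2 h

theorem center_ne_bot {K : Subgroup G} (hK : Group.IsNilpotent K) (h : K ≠ ⊥) : 𝐙(K) ≠ ⊥ :=
  inf_center_ne_bot hK ⟨le_rfl, le_normalizer⟩ h

/-- Normalizers grow in nilpotent groups. -/
theorem lt_inf_norm_of_isNilpotent {P Q : Subgroup G} (hQ : Group.IsNilpotent Q) (h : P < Q) :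
    P < Q ⊓ 𝐍(P) := by
  obtain ⟨x, hx, hxn, hxP⟩ := H1.exists_mem_normalizer_of_lt hQ h
  exact lt_of_le_of_ne (le_inf h.le le_normalizer) fun e => hxP (e ▸ ⟨hx, hxn⟩)

/-! ### π-subgroups -/

section pi

variable {π ρ : Set ℕ} {A B H K M : Subgroup G} {x y : G}

theorem mem_piOf {p : ℕ} : p ∈ piOf H ↔ p.Prime ∧ p ∣ 𝐨(H) := Iff.rfl

theorem piOf_mono (h : H ≤ K) : piOf H ⊆ piOf K :=
  fun _ hp => ⟨hp.1, hp.2.trans (card_dvd_of_le h)⟩

theorem isPi_iff_piOf_subset : IsPiSubgroup π H ↔ piOf H ⊆ π :=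
  ⟨fun h p hp => h p hp.1 hp.2, fun h _ hp hd => h ⟨hp, hd⟩⟩

theorem isPi_piOf (H : Subgroup G) : IsPiSubgroup (piOf H) H := isPi_iff_piOf_subset.2 le_rfl

theorem isPi_of_le (h : A ≤ B) (hB : IsPiSubgroup π B) : IsPiSubgroup π A :=
  L.IsPiSubgroup.mono h hB

theorem isPi_mono (h : π ⊆ ρ) (hA : IsPiSubgroup π A) : IsPiSubgroup ρ A :=
  fun p hp hd => h (hA p hp hd)

theorem isPi_bot (π : Set ℕ) : IsPiSubgroup π (⊥ : Subgroup G) := L.isPiSubgroup_bot π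

theorem isPi_sup [Finite G] (hA : IsPiSubgroup π A) (hB : IsPiSubgroup π B) (h : A ≤ 𝐍(B)) :
    IsPiSubgroup π (A ⊔ B) := L.IsPiSubgroup.sup hA hB h

theorem isPi_inter (hA : IsPiSubgroup π A) (hA' : IsPiSubgroup ρ A) : IsPiSubgroup (π ∩ ρ) A :=
  fun p hp hd => ⟨hA p hp hd, hA' p hp hd⟩

theorem isPi_coprime (hA : IsPiSubgroup π A) (hB : IsPiSubgroup πᶜ B) : 𝐨(A).Coprime 𝐨(B) :=
  L.IsPiSubgroup.coprime hA hB

theorem isPi_coprime' (hA : IsPiSubgroup π A) (hB : IsPiSubgroup ρ B) (h : Disjoint π ρ) :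
    𝐨(A).Coprime 𝐨(B) :=
  isPi_coprime hA (isPi_mono h.symm.subset_compl_right hB)

theorem isPi_disjoint (hA : IsPiSubgroup π A) (hB : IsPiSubgroup πᶜ B) : A ⊓ B = ⊥ :=
  L.IsPiSubgroup.disjoint hA hB

theorem eq_bot_of_isPi_of_isPi_compl (hA : IsPiSubgroup π A) (hB : IsPiSubgroup πᶜ A) : A = ⊥ := by
  simpa using isPi_disjoint hA hB

theorem coprime_iff_isPi_compl : 𝐨(A).Coprime 𝐨(B) ↔ IsPiSubgroup (piOf B)ᶜ A := by
  refine ⟨fun h p hp hd hB => hp.one_lt.ne' (Nat.eq_one_of_dvd_coprimes h hd hB.2), fun h => ?_⟩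
  exact (isPi_coprime (isPi_piOf B) h).symm

theorem isPi_singleton_iff [Finite G] {p : ℕ} (hp : p.Prime) : IsPiSubgroup {p} A ↔ IsPGroup p A :=
  L.isPiSubgroup_singleton_iff hp

theorem isPi_compl_singleton_iff {p : ℕ} (hp : p.Prime) :
    IsPiSubgroup {p}ᶜ A ↔ 𝐨(A).Coprime p := L.isPiSubgroup_compl_singleton_iff hp

theorem isPi_compl_singleton_iff' {p : ℕ} (hp : p.Prime) : IsPiSubgroup {p}ᶜ A ↔ ¬ p ∣ 𝐨(A) := by
  rw [isPi_compl_singleton_iff hp, Nat.coprime_comm, hp.coprime_iff_not_dvd]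

theorem isPi_of_isPGroup [Finite G] {p : ℕ} (hp : p.Prime) (hA : IsPGroup p A) (h : p ∈ π) :
    IsPiSubgroup π A :=
  isPi_mono (Set.singleton_subset_iff.2 h) ((isPi_singleton_iff hp).2 hA)

theorem isPi_of_card_prime {p : ℕ} (hp : p.Prime) (hA : 𝐨(A) = p) (h : p ∈ π) :
    IsPiSubgroup π A := fun q hq hd => by
  rw [hA] at hd; rwa [(Nat.prime_dvd_prime_iff_eq hq hp).1 hd]

theorem mem_of_isPi_of_isPGroup [Finite G] {p : ℕ} (hp : p.Prime) (hA : IsPGroup p A)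
    (h1 : A ≠ ⊥) (h : IsPiSubgroup π A) : p ∈ π :=
  h p hp (prime_dvd_card_of_isPGroup hp hA h1)

theorem isPi_iff_forall_elt [Finite G] : IsPiSubgroup π A ↔ ∀ a ∈ A, IsPiElt π a :=
  L.isPiSubgroup_iff_orderOf

theorem isPiElt_of_mem (hA : IsPiSubgroup π A) (hx : x ∈ A) : IsPiElt π x :=
  fun p hp hd => hA p hp (hd.trans (orderOf_dvd_card_of_mem hx))

theorem isPi_zpowers : IsPiSubgroup π (zpowers x) ↔ IsPiElt π x := by
  unfold IsPiSubgroup IsPiElt; rw [Nat.card_zpowers]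

theorem isPiElt_iff_isPiNum : IsPiElt π x ↔ L.IsPiNum π (orderOf x) := Iff.rfl

theorem isPiElt_one (π : Set ℕ) : IsPiElt π (1 : G) := fun p hp hd => by
  rw [orderOf_one] at hd; exact absurd hd hp.not_dvd_one

theorem IsPiElt.mono (h : π ⊆ ρ) (hx : IsPiElt π x) : IsPiElt ρ x := fun p hp hd => h (hx p hp hd)

theorem IsPiElt.of_mem_zpowers (hx : IsPiElt π x) (hy : y ∈ zpowers x) : IsPiElt π y :=
  isPiElt_of_mem (isPi_zpowers.2 hx) hy

theorem IsPiElt.pow (hx : IsPiElt π x) (n : ℕ) : IsPiElt π (x ^ n) :=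
  hx.of_mem_zpowers (pow_mem (mem_zpowers x) n)

theorem IsPiElt.inv (hx : IsPiElt π x) : IsPiElt π x⁻¹ :=
  hx.of_mem_zpowers (inv_mem (mem_zpowers x))

theorem isPiElt_conj {g : G} : IsPiElt π (g * x * g⁻¹) ↔ IsPiElt π x := by
  unfold IsPiElt
  rw [show g * x * g⁻¹ = MulAut.conj g x from rfl, MulEquiv.orderOf_eq]

theorem IsPiElt.mul (hx : IsPiElt π x) (hy : IsPiElt π y) (h : Commute x y) : IsPiElt π (x * y) :=
  L.IsPiNum.of_dvd (L.IsPiNum.mul hx hy) h.orderOf_mul_dvd_mul_orderOf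

theorem IsPiElt.coprime (hx : IsPiElt π x) (hy : IsPiElt πᶜ y) : (orderOf x).Coprime (orderOf y) :=
  L.IsPiNum.coprime hx hy

theorem IsPiElt.eq_one (hx : IsPiElt π x) (hx' : IsPiElt πᶜ x) : x = 1 :=
  orderOf_eq_one_iff.1 (Nat.coprime_self _ |>.1 (hx.coprime hx'))

theorem isPiElt_singleton_iff [Finite G] {p : ℕ} (hp : p.Prime) :
    IsPiElt {p} x ↔ IsPGroup p (zpowers x) := by
  rw [← isPi_zpowers, isPi_singleton_iff hp]

/-! ### π-parts of elements -/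

theorem piPt_spec [Finite G] (π : Set ℕ) (x : G) :
    piPt π x ∈ zpowers x ∧ IsPiElt π (piPt π x) ∧ IsPiElt πᶜ ((piPt π x)⁻¹ * x) := by
  obtain ⟨a, b, ha, -, hab, -, h1, h2⟩ := H6.exists_piPart π x
  refine Classical.epsilon_spec (p := fun a => a ∈ zpowers x ∧ IsPiElt π a ∧ IsPiElt πᶜ (a⁻¹ * x))
    ⟨a, ha, h1, ?_⟩
  rw [hab, inv_mul_cancel_left]; exact h2

theorem piPt_mem_zpowers [Finite G] (π : Set ℕ) (x : G) : piPt π x ∈ zpowers x := (piPt_spec π x).1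

theorem isPiElt_piPt [Finite G] (π : Set ℕ) (x : G) : IsPiElt π (piPt π x) := (piPt_spec π x).2.1

theorem piPt_mem [Finite G] (hx : x ∈ H) (π : Set ℕ) : piPt π x ∈ H :=
  zpowers_le.2 hx (piPt_mem_zpowers π x)

/-- Uniqueness of the decomposition `x = x_π x_π'`. -/
theorem piPt_mul_eq [Finite G] (hx : IsPiElt π x) (hy : IsPiElt πᶜ y) (h : Commute x y) :
    piPt π (x * y) = x := by
  obtain ⟨h1, h2, h3⟩ := piPt_spec π (x * y)
  refine (H6.piPart_unique (π := π) (b := (piPt π (x * y))⁻¹ * (x * y)) ?_ h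
    (mul_inv_cancel_left _ _) h2 h3 hx hy).1
  exact H6.commute_of_mem_zpowers h1 (mul_mem (inv_mem h1) (mem_zpowers _))

theorem piPt_compl_mul_eq [Finite G] (hx : IsPiElt π x) (hy : IsPiElt πᶜ y) (h : Commute x y) :
    piPt πᶜ (x * y) = y := by
  rw [h.eq]; exact piPt_mul_eq hy (by rwa [compl_compl]) h.symm

theorem piPt_compl_eq [Finite G] (π : Set ℕ) (x : G) : piPt πᶜ x = (piPt π x)⁻¹ * x := by
  obtain ⟨h1, h2, h3⟩ := piPt_spec π x
  have := piPt_compl_mul_eq h2 h3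
    (H6.commute_of_mem_zpowers h1 (mul_mem (inv_mem h1) (mem_zpowers _)))
  rwa [mul_inv_cancel_left] at this

theorem piPt_mul_piPt_compl [Finite G] (π : Set ℕ) (x : G) : piPt π x * piPt πᶜ x = x := by
  rw [piPt_compl_eq, mul_inv_cancel_left]

theorem commute_piPt [Finite G] (π ρ : Set ℕ) (x : G) : Commute (piPt π x) (piPt ρ x) :=
  H6.commute_of_mem_zpowers (piPt_mem_zpowers π x) (piPt_mem_zpowers ρ x)

theorem piPt_eq_self_iff [Finite G] : piPt π x = x ↔ IsPiElt π x :=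
  ⟨fun h => h ▸ isPiElt_piPt π x, fun h => by
    simpa using piPt_mul_eq h (isPiElt_one πᶜ) (Commute.one_right x)⟩

theorem piPt_eq_one_iff [Finite G] : piPt π x = 1 ↔ IsPiElt πᶜ x := by
  rw [← piPt_eq_self_iff, piPt_compl_eq, inv_mul_eq_iff_eq_mul, eq_comm (a := x), mul_eq_right]

theorem piPt_one [Finite G] (π : Set ℕ) : piPt π (1 : G) = 1 := piPt_eq_self_iff.2 (isPiElt_one π)

theorem piPt_conj [Finite G] (π : Set ℕ) (x g : G) :
    piPt π (g * x * g⁻¹) = g * piPt π x * g⁻¹ := by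
  have : g * x * g⁻¹ = (g * piPt π x * g⁻¹) * (g * piPt πᶜ x * g⁻¹) := by
    conv_lhs => rw [← piPt_mul_piPt_compl π x]
    group
  rw [this]
  refine piPt_mul_eq (isPiElt_conj.2 (isPiElt_piPt π x)) (isPiElt_conj.2 (isPiElt_piPt _ x)) ?_
  exact (commute_piPt π πᶜ x).map (MulAut.conj g)

theorem piPt_mul [Finite G] (π : Set ℕ) (h : Commute x y) :
    piPt π (x * y) = piPt π x * piPt π y := by
  have hc : ∀ a ∈ zpowers x, ∀ b ∈ zpowers y, Commute a b := by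
    rintro _ ⟨m, rfl⟩ _ ⟨n, rfl⟩; exact h.zpow_zpow m n
  have hx := piPt_mem_zpowers (G := G)
  have : x * y = (piPt π x * piPt π y) * (piPt πᶜ x * piPt πᶜ y) := by
    conv_lhs => rw [← piPt_mul_piPt_compl π x, ← piPt_mul_piPt_compl π y]
    rw [mul_assoc, mul_assoc, ← mul_assoc (piPt πᶜ x), (hc _ (hx πᶜ x) _ (hx π y)).eq, mul_assoc]
  rw [this]
  refine piPt_mul_eq ((isPiElt_piPt π x).mul (isPiElt_piPt π y) (hc _ (hx _ _) _ (hx _ _)))
    ((isPiElt_piPt _ x).mul (isPiElt_piPt _ y) (hc _ (hx _ _) _ (hx _ _))) ?_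
  exact Commute.mul_left (Commute.mul_right (commute_piPt _ _ _) (hc _ (hx _ _) _ (hx _ _)))
    (Commute.mul_right (hc _ (hx _ _) _ (hx _ _)).symm (commute_piPt _ _ _))

theorem cent1_le_cent1_piPt [Finite G] (π : Set ℕ) (x : G) : 𝐂[x] ≤ 𝐂[piPt π x] :=
  cent1_le_cent1_of_mem_zpowers (piPt_mem_zpowers π x)

/-- For commuting elements of coprime orders `C(xy) = C(x) ∩ C(y)`. -/
theorem cent1_mul_eq [Finite G] (hx : IsPiElt π x) (hy : IsPiElt πᶜ y) (h : Commute x y) :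
    𝐂[x * y] = 𝐂[x] ⊓ 𝐂[y] := by
  refine le_antisymm (le_inf ?_ ?_) fun g hg => ?_
  · simpa only [piPt_mul_eq hx hy h] using cent1_le_cent1_piPt π (x * y)
  · simpa only [piPt_compl_mul_eq hx hy h] using cent1_le_cent1_piPt πᶜ (x * y)
  · exact mem_cent1_comm.1 (mul_mem (mem_cent1_comm.1 hg.1) (mem_cent1_comm.1 hg.2))

/-! ### Hall subgroups -/

theorem hall_le (h : IsPiHallOf π H M) : H ≤ M := h.1

theorem hall_isPi (h : IsPiHallOf π H M) : IsPiSubgroup π H := h.2.1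

theorem hall_not_dvd (h : IsPiHallOf π H M) {p : ℕ} (hp : p.Prime) (hπ : p ∈ π) :
    ¬ p ∣ H.relIndex M := h.2.2 p hp hπ

theorem hall_coprime (h : IsPiHallOf π H M) : 𝐨(H).Coprime (H.relIndex M) :=
  L.IsPiNum.coprime (H1.isPiHallOf_iff.1 h).2.1 (H1.isPiHallOf_iff.1 h).2.2

theorem hall_isHallIn (h : IsPiHallOf π H M) : IsHallIn H M := ⟨h.1, hall_coprime h⟩

theorem IsHallIn.hall (h : IsHallIn H M) : IsPiHallOf (piOf H) H M :=
  ⟨h.1, isPi_piOf H, fun _ hp hπ hd => hp.one_lt.ne' (Nat.eq_one_of_dvd_coprimes h.2 hπ.2 hd)⟩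

theorem hall_self (h : IsPiSubgroup π H) : IsPiHallOf π H H :=
  ⟨le_rfl, h, fun _ hp _ => by rw [relIndex_self]; exact hp.not_dvd_one⟩

theorem hall_bot (h : IsPiSubgroup πᶜ M) : IsPiHallOf π ⊥ M :=
  ⟨bot_le, isPi_bot π, fun p hp hπ hd => h p hp (by rwa [relIndex_bot_left] at hd) hπ⟩

theorem hall_eq_bot_iff (h : IsPiHallOf π H M) : H = ⊥ ↔ IsPiSubgroup πᶜ M := by
  refine ⟨fun e p hp hd hπ => h.2.2 p hp hπ (by rwa [e, relIndex_bot_left]), fun hM => ?_⟩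
  exact eq_bot_of_isPi_of_isPi_compl h.2.1 (isPi_of_le h.1 hM)

theorem hall_eq_self_iff [Finite G] (h : IsPiHallOf π H M) : H = M ↔ IsPiSubgroup π M :=
  ⟨fun e => e ▸ h.2.1, fun hM => (H1.eq_of_isPiHallOf_of_le h h.1 le_rfl hM).symm⟩

theorem hall_dvd_card_iff (h : IsPiHallOf π H M) {p : ℕ} (hp : p.Prime) (hπ : p ∈ π) :
    p ∣ 𝐨(H) ↔ p ∣ 𝐨(M) := by
  refine ⟨fun hd => hd.trans (card_dvd_of_le h.1), fun hd => ?_⟩
  rw [← H1.card_mul_relIndex h.1] at hd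
  exact (hp.dvd_mul.1 hd).resolve_right (h.2.2 p hp hπ)

theorem hall_congr (h : IsPiHallOf π H M) (hπ : ∀ p : ℕ, p.Prime → p ∣ 𝐨(M) → (p ∈ π ↔ p ∈ ρ)) :
    IsPiHallOf ρ H M :=
  ⟨h.1, fun p hp hd => (hπ p hp (hd.trans (card_dvd_of_le h.1))).1 (h.2.1 p hp hd),
    fun p hp hρ hd => h.2.2 p hp ((hπ p hp (hd.trans (relIndex_dvd_card' H M))).2 hρ) hd⟩

theorem hall_trans (h : IsPiHallOf π H K) (h' : IsPiHallOf ρ K M) (hπ : π ⊆ ρ) :
    IsPiHallOf π H M :=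
  ⟨h.1.trans h'.1, h.2.1, fun p hp hp' hd => by
    rw [← relIndex_mul_relIndex H K M h.1 h'.1] at hd
    exact (hp.dvd_mul.1 hd).elim (h.2.2 p hp hp') (h'.2.2 p hp (hπ hp'))⟩

theorem hall_trans_inter (h : IsPiHallOf π H K) (h' : IsPiHallOf ρ K M) :
    IsPiHallOf (π ∩ ρ) H M :=
  hall_trans (hall_congr h fun p hp hd => ⟨fun hh => ⟨hh, h'.2.1 p hp hd⟩, fun hh => hh.1⟩) h'
    Set.inter_subset_right

theorem hall_of_le (h : IsPiHallOf π H M) (hHK : H ≤ K) (hKM : K ≤ M) : IsPiHallOf π H K :=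
  H1.isPiHallOf_of_le h hHK hKM

theorem hall_eq_of_le [Finite G] (h : IsPiHallOf π H M) (hHK : H ≤ K) (hKM : K ≤ M)
    (hK : IsPiSubgroup π K) : K = H := H1.eq_of_isPiHallOf_of_le h hHK hKM hK

theorem hall_of_card_eq [Finite G] (h : IsPiHallOf π H M) (hK : K ≤ M) (hc : 𝐨(K) = 𝐨(H)) :
    IsPiHallOf π K M := by
  have : K.relIndex M = H.relIndex M := by
    have h1 := H1.card_mul_relIndex hK
    rw [← H1.card_mul_relIndex h.1, hc] at h1
    exact Nat.eq_of_mul_eq_mul_left Nat.card_pos h1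
  exact ⟨hK, hc ▸ h.2.1, this ▸ h.2.2⟩

theorem hall_conj (h : IsPiHallOf π H M) (g : G) : IsPiHallOf π (H ^ᵍ g) (M ^ᵍ g) :=
  H1.isPiHallOf_map h _

theorem hall_conj_of_mem (h : IsPiHallOf π H M) {g : G} (hg : g ∈ 𝐍(M)) :
    IsPiHallOf π (H ^ᵍ g) M := H1.isPiHallOf_map_conj h hg

theorem hall_inf_normal [Finite G] (h : IsPiHallOf π H M) (hK : K ⊲ M) :
    IsPiHallOf π (H ⊓ K) K := H1.isPiHallOf_inf h hK.1 (h.1.trans hK.2)

/-- A π-subgroup lies in a normal Hall π-subgroup. -/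
theorem le_of_hall_normal [Finite G] (h : IsPiHallOf π H M) (hn : M ≤ 𝐍(H)) (hK : K ≤ M)
    (hKπ : IsPiSubgroup π K) : K ≤ H :=
  le_sup_left.trans (hall_eq_of_le h le_sup_right (sup_le hK h.1)
    (isPi_sup hKπ h.2.1 (hK.trans hn))).le

theorem mem_of_hall_normal [Finite G] (h : IsPiHallOf π H M) (hn : M ≤ 𝐍(H)) (hx : x ∈ M)
    (hxπ : IsPiElt π x) : x ∈ H :=
  zpowers_le.1 (le_of_hall_normal h hn (zpowers_le.2 hx) (isPi_zpowers.2 hxπ))

/-- A normal π-subgroup lies in every Hall π-subgroup. -/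
theorem le_hall_of_normal [Finite G] (h : IsPiHallOf π H M) (hK : K ≤ M) (hKπ : IsPiSubgroup π K)
    (hn : H ≤ 𝐍(K)) : K ≤ H := H1.le_of_isPiHallOf_of_le_normalizer h hK hKπ hn

theorem exists_hall [Finite G] (hs : Group.IsSolvable M) (π : Set ℕ) : ∃ H, IsPiHallOf π H M :=
  H1.exists_isPiHallOf (L.piSep_of_isSolvable π)

theorem exists_hall_ge [Finite G] (hs : Group.IsSolvable M) (hK : K ≤ M) (hKπ : IsPiSubgroup π K) :
    ∃ H, IsPiHallOf π H M ∧ K ≤ H :=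
  H1.exists_le_isPiHallOf (L.piSep_of_isSolvable π)
    (Or.inl fun _ h _ => H1.isSolvable_of_le h hs) hK hKπ

theorem exists_conj_le_hall [Finite G] (hs : Group.IsSolvable M) (h : IsPiHallOf π H M)
    (hK : K ≤ M) (hKπ : IsPiSubgroup π K) : ∃ g ∈ M, K ^ᵍ g ≤ H :=
  H1.exists_conj_le_isPiHallOf (L.piSep_of_isSolvable π) h
    (Or.inl (H1.isSolvable_of_le h.1 hs)) hK hKπ

theorem exists_le_conj_hall [Finite G] (hs : Group.IsSolvable M) (h : IsPiHallOf π H M)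
    (hK : K ≤ M) (hKπ : IsPiSubgroup π K) : ∃ g ∈ M, K ≤ H ^ᵍ g := by
  obtain ⟨g, hg, hle⟩ := exists_conj_le_hall hs h hK hKπ
  exact ⟨g⁻¹, inv_mem hg, conj_le_iff.1 hle⟩

theorem exists_conj_eq_hall [Finite G] (hs : Group.IsSolvable M) (h : IsPiHallOf π H M)
    (hK : IsPiHallOf π K M) : ∃ g ∈ M, K ^ᵍ g = H :=
  H1.exists_conj_eq_isPiHallOf (L.piSep_of_isSolvable π) h
    (Or.inl (H1.isSolvable_of_le h.1 hs)) hK

/-- Frattini argument for Hall subgroups of solvable subgroups. -/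
theorem hall_frattini [Finite G] (hs : Group.IsSolvable K) (h : IsPiHallOf π H K)
    (hM : K ⊲ M) : K ⊔ (M ⊓ 𝐍(H)) = M := by
  refine le_antisymm (sup_le hM.1 inf_le_left) fun x hx => ?_
  obtain ⟨g, hg, he⟩ := exists_conj_eq_hall hs h (hall_conj_of_mem h (hM.2 hx))
  rw [conj_conj, conj_eq_self_iff] at he
  have : x = g⁻¹ * (g * x) := by group
  rw [this]
  exact mul_mem_sup (inv_mem hg) ⟨mul_mem (hM.1 hg) hx, he⟩

/-- Complementary Hall subgroups generate. -/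
theorem hall_sup_hall_compl [Finite G] (h : IsPiHallOf π H M) (hK : IsPiHallOf πᶜ K M) :
    H ⊔ K = M := by
  have hle : H ⊔ K ≤ M := sup_le h.1 hK.1
  refine le_antisymm hle (relIndex_eq_one.1 ?_)
  by_contra hne
  obtain ⟨p, hp, hd⟩ := Nat.exists_prime_and_dvd hne
  by_cases hπ : p ∈ π
  · exact h.2.2 p hp hπ (hd.trans (relIndex_dvd_of_le_left M le_sup_left))
  · exact hK.2.2 p hp hπ (hd.trans (relIndex_dvd_of_le_left M le_sup_right))

theorem hall_relIndex_eq_card [Finite G] (h : IsPiHallOf π H M) (hK : IsPiHallOf πᶜ K M) :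
    H.relIndex M = 𝐨(K) := by
  apply Nat.dvd_antisymm
  · refine H1.dvd_of_isPiNum (π := πᶜ) (b := K.relIndex M) (H1.isPiHallOf_iff.1 h).2.2
      (H1.isPiHallOf_iff.1 hK).2.2 ?_
    rw [H1.card_mul_relIndex hK.1]; exact relIndex_dvd_card' _ _
  · refine H1.dvd_of_isPiNum (π := πᶜ) (b := 𝐨(H)) hK.2.1 (by rw [compl_compl]; exact h.2.1) ?_
    rw [mul_comm, H1.card_mul_relIndex h.1]; exact card_dvd_of_le hK.1

theorem hall_card_mul_card [Finite G] (h : IsPiHallOf π H M) (hK : IsPiHallOf πᶜ K M) :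
    𝐨(H) * 𝐨(K) = 𝐨(M) := by
  rw [← hall_relIndex_eq_card h hK, H1.card_mul_relIndex h.1]

/-- If `M = K H` with `K` a normalized π'-group and `H` a π-group then both are Hall. -/
theorem hall_of_sup [Finite G] (hn : H ≤ 𝐍(K)) (hH : IsPiSubgroup π H) (hK : IsPiSubgroup πᶜ K) :
    IsPiHallOf π H (K ⊔ H) ∧ IsPiHallOf πᶜ K (K ⊔ H) := by
  have hc := H1.card_sup_of_coprime hn (isPi_coprime hH hK)
  rw [sup_comm] at hc
  have h1 : H.relIndex (K ⊔ H) = 𝐨(K) := by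
    have := H1.card_mul_relIndex (le_sup_right : H ≤ K ⊔ H)
    rw [hc] at this
    exact Nat.eq_of_mul_eq_mul_left Nat.card_pos this
  have h2 : K.relIndex (K ⊔ H) = 𝐨(H) := by
    have := H1.card_mul_relIndex (le_sup_left : K ≤ K ⊔ H)
    rw [hc, mul_comm 𝐨(H)] at this
    exact Nat.eq_of_mul_eq_mul_left Nat.card_pos this
  exact ⟨⟨le_sup_right, hH, fun p hp hπ hd => hK p hp (h1 ▸ hd) hπ⟩,
    ⟨le_sup_left, hK, fun p hp hπ hd => hπ (hH p hp (h2 ▸ hd))⟩⟩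

end pi

/-! ### Sylow subgroups -/

section syl

variable [Finite G] {p : ℕ} {P Q H K M : Subgroup G}

theorem isSyl_iff_hall (hp : p.Prime) : IsSyl p P M ↔ IsPiHallOf {p} P M :=
  ⟨fun h => ⟨h.le, (isPi_singleton_iff hp).2 h.pgrp, fun q _ hq => by
      rw [Set.mem_singleton_iff.1 hq]; exact h.ndvd⟩,
    fun h => ⟨h.1, (isPi_singleton_iff hp).1 h.2.1, h.2.2 p hp rfl⟩⟩

theorem exists_isSyl (hp : p.Prime) (M : Subgroup G) : ∃ P, IsSyl p P M := by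
  haveI := Fact.mk hp
  obtain ⟨P, h1, h2, h3⟩ := H1.exists_sylow_le p M
  exact ⟨P, h1, h2, h3⟩

theorem exists_isSyl_ge (hp : p.Prime) (hQ : IsPGroup p Q) (hQM : Q ≤ M) :
    ∃ P, IsSyl p P M ∧ Q ≤ P := by
  haveI := Fact.mk hp
  obtain ⟨P, h0, h1, h2, h3⟩ := H1.exists_sylow_of_le hQM hQ
  exact ⟨P, ⟨h1, h2, h3⟩, h0⟩

theorem IsSyl.exists_conj_le (hp : p.Prime) (h : IsSyl p P M) (hQ : IsPGroup p Q) (hQM : Q ≤ M) :
    ∃ g ∈ M, Q ^ᵍ g ≤ P := by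
  haveI := Fact.mk hp; exact H1.exists_conj_le_sylow h.pgrp h.ndvd hQM hQ

theorem IsSyl.exists_le_conj (hp : p.Prime) (h : IsSyl p P M) (hQ : IsPGroup p Q) (hQM : Q ≤ M) :
    ∃ g ∈ M, Q ≤ P ^ᵍ g := by
  obtain ⟨g, hg, hle⟩ := h.exists_conj_le hp hQ hQM
  exact ⟨g⁻¹, inv_mem hg, conj_le_iff.1 hle⟩

theorem IsSyl.exists_conj_eq (hp : p.Prime) (h : IsSyl p P M) (hQ : IsSyl p Q M) :
    ∃ g ∈ M, Q ^ᵍ g = P := by
  haveI := Fact.mk hp
  exact H1.exists_conj_eq_sylow h.le h.pgrp h.ndvd hQ.le hQ.pgrp hQ.ndvd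

theorem IsSyl.eq_of_le (hp : p.Prime) (h : IsSyl p P M) (hPQ : P ≤ Q) (hQM : Q ≤ M)
    (hQ : IsPGroup p Q) : Q = P := by
  haveI := Fact.mk hp; exact H1.sylow_maximal h.ndvd hPQ hQM hQ

theorem isSyl_of_maximal (hp : p.Prime) (hPM : P ≤ M) (hP : IsPGroup p P)
    (hmax : ∀ Q : Subgroup G, P ≤ Q → Q ≤ M → IsPGroup p Q → Q = P) : IsSyl p P M := by
  haveI := Fact.mk hp; exact ⟨hPM, hP, H1.not_dvd_relIndex_of_maximal hPM hP hmax⟩

omit [Finite G] in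
theorem IsSyl.conj (h : IsSyl p P M) (g : G) : IsSyl p (P ^ᵍ g) (M ^ᵍ g) :=
  (isSyl_map_iff (conj_injective g)).2 h

omit [Finite G] in
theorem IsSyl.conj_of_mem_norm (h : IsSyl p P M) {g : G} (hg : g ∈ 𝐍(M)) : IsSyl p (P ^ᵍ g) M := by
  simpa only [conj_eq_of_mem_norm hg] using h.conj g

omit [Finite G] in
theorem IsSyl.of_le (h : IsSyl p P M) (hPK : P ≤ K) (hKM : K ≤ M) : IsSyl p P K :=
  ⟨hPK, h.pgrp, fun hd => h.ndvd (hd.trans
    (Dvd.intro _ (relIndex_mul_relIndex P K M hPK hKM)))⟩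

omit [Finite G] in
theorem IsSyl.trans (hp : p.Prime) (h : IsSyl p P K) (hKM : K ≤ M) (hi : ¬ p ∣ K.relIndex M) :
    IsSyl p P M :=
  ⟨h.le.trans hKM, h.pgrp, fun hd => by
    rw [← relIndex_mul_relIndex P K M h.le hKM] at hd
    exact (hp.dvd_mul.1 hd).elim h.ndvd hi⟩

omit [Finite G] in
theorem IsSyl.trans_hall (hp : p.Prime) {π : Set ℕ} (h : IsSyl p P K) (hK : IsPiHallOf π K M)
    (hπ : p ∈ π) : IsSyl p P M := h.trans hp hK.1 (hK.2.2 p hp hπ)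

theorem IsSyl.card_eq (hp : p.Prime) (h : IsSyl p P M) (hQ : IsSyl p Q M) : 𝐨(P) = 𝐨(Q) :=
  H1.card_eq_of_isPiHallOf ((isSyl_iff_hall hp).1 h) ((isSyl_iff_hall hp).1 hQ)

theorem IsSyl.card_dvd (hp : p.Prime) (h : IsSyl p P M) (hQ : IsPGroup p Q) (hQM : Q ≤ M) :
    𝐨(Q) ∣ 𝐨(P) :=
  H1.card_dvd_of_isPiHallOf ((isSyl_iff_hall hp).1 h) hQM ((isPi_singleton_iff hp).2 hQ)

theorem IsSyl.of_card_eq (hp : p.Prime) (h : IsSyl p P M) (hQM : Q ≤ M) (hc : 𝐨(Q) = 𝐨(P)) :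
    IsSyl p Q M := (isSyl_iff_hall hp).2 (hall_of_card_eq ((isSyl_iff_hall hp).1 h) hQM hc)

theorem IsSyl.of_card_le (hp : p.Prime) (h : IsSyl p P M) (hQ : IsPGroup p Q) (hQM : Q ≤ M)
    (hc : 𝐨(P) ≤ 𝐨(Q)) : IsSyl p Q M :=
  h.of_card_eq hp hQM (le_antisymm (Nat.le_of_dvd Nat.card_pos (h.card_dvd hp hQ hQM)) hc)

theorem IsSyl.card_eq_pow_factorization (hp : p.Prime) (h : IsSyl p P M) :
    𝐨(P) = p ^ 𝐨(M).factorization p := by
  obtain ⟨n, hn⟩ := exists_card_eq_pow hp h.pgrp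
  have h0 : P.relIndex M ≠ 0 := L.relIndex_ne_zero P M
  rw [← H1.card_mul_relIndex h.le, Nat.factorization_mul (card_ne_zero P) h0, hn]
  simp [hp.factorization_pow, Nat.factorization_eq_zero_of_not_dvd h.ndvd]

theorem IsSyl.eq_bot_iff (hp : p.Prime) (h : IsSyl p P M) : P = ⊥ ↔ ¬ p ∣ 𝐨(M) := by
  rw [hall_eq_bot_iff ((isSyl_iff_hall hp).1 h), isPi_compl_singleton_iff' hp]

theorem IsSyl.ne_bot (hp : p.Prime) (h : IsSyl p P M) (hd : p ∣ 𝐨(M)) : P ≠ ⊥ :=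
  fun e => (h.eq_bot_iff hp).1 e hd

theorem IsSyl.inf_normal (hp : p.Prime) (h : IsSyl p P M) (hK : K ⊲ M) : IsSyl p (P ⊓ K) K :=
  (isSyl_iff_hall hp).2 (hall_inf_normal ((isSyl_iff_hall hp).1 h) hK)

theorem IsSyl.le_of_normal (hp : p.Prime) (h : IsSyl p P M) (hn : M ≤ 𝐍(P)) (hQ : IsPGroup p Q)
    (hQM : Q ≤ M) : Q ≤ P :=
  le_of_hall_normal ((isSyl_iff_hall hp).1 h) hn hQM ((isPi_singleton_iff hp).2 hQ)

theorem IsSyl.le_of_le_norm (hp : p.Prime) (h : IsSyl p P M) (hQ : IsPGroup p Q) (hQM : Q ≤ M)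
    (hn : P ≤ 𝐍(Q)) : Q ≤ P :=
  le_hall_of_normal ((isSyl_iff_hall hp).1 h) hQM ((isPi_singleton_iff hp).2 hQ) hn

theorem IsSyl.le_of_norm (hp : p.Prime) (h : IsSyl p P M) (hQ : IsPGroup p Q) (hQM : Q ≤ M)
    (hn : Q ≤ 𝐍(P)) : Q ≤ P :=
  le_sup_left.trans (h.eq_of_le hp le_sup_right (sup_le hQM h.le) (isPGroup_sup hQ h.pgrp hn)).le

/-- A Sylow subgroup of its normalizer is Sylow. -/
theorem IsSyl.of_norm (hp : p.Prime) (h : IsSyl p P (M ⊓ 𝐍(P))) : IsSyl p P M := by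
  haveI := Fact.mk hp
  exact ⟨h.le.trans inf_le_left, h.pgrp,
    H1.not_dvd_relIndex_of_normalizer (h.le.trans inf_le_left) h.pgrp h.ndvd⟩

/-- Frattini argument. -/
theorem IsSyl.frattini (hp : p.Prime) (h : IsSyl p P K) (hM : K ⊲ M) : K ⊔ (M ⊓ 𝐍(P)) = M := by
  haveI := Fact.mk hp
  refine le_antisymm (sup_le hM.1 inf_le_left) fun x hx => ?_
  obtain ⟨g, hg, he⟩ := H1.frattini_argument h.le h.pgrp h.ndvd (hM.2 hx)
  have : x = g⁻¹ * (g * x) := by group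
  rw [this]
  exact mul_mem_sup (inv_mem hg) ⟨mul_mem (hM.1 hg) hx, he⟩

theorem le_of_forall_isSyl_le (h : ∀ p : ℕ, p.Prime → ∀ P, IsSyl p P H → P ≤ K) : H ≤ K :=
  H1.le_of_forall_isPGroup_le fun p hp P h1 h2 h3 => h p hp P ⟨h1, h2, h3⟩

theorem le_of_forall_exists_isSyl_le (h : ∀ p : ℕ, p.Prime → p ∣ 𝐨(H) → ∃ P, IsSyl p P H ∧ P ≤ K) :
    H ≤ K := by
  refine H1.le_of_forall_exists_sylow_le fun p hp => ?_
  by_cases hd : p ∣ 𝐨(H)
  · obtain ⟨P, hP, hPK⟩ := h p hp hd; exact ⟨P, hP.ndvd, hPK⟩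
  · exact ⟨⊥, by rwa [relIndex_bot_left], bot_le⟩

/-- Passing to Mathlib's `Sylow` in the subgroup `M`. -/
theorem IsSyl.exists_sylow (hp : p.Prime) (h : IsSyl p P M) :
    ∃ S : Sylow p M, (S : Subgroup M) = P.subgroupOf M := by
  haveI := Fact.mk hp
  exact ⟨((H2.isPGroup_subgroupOf_iff h.le).2 h.pgrp).toSylow h.ndvd, rfl⟩

theorem isSyl_map_subtype (hp : p.Prime) (S : Sylow p M) :
    IsSyl p ((S : Subgroup M).map M.subtype) M := by
  haveI := Fact.mk hp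
  refine ⟨map_subtype_le _, S.isPGroup'.map _, ?_⟩
  rw [relIndex, subgroupOf, comap_map_eq_self_of_injective M.subtype_injective]
  exact S.not_dvd_index

theorem isSyl_top_coe (hp : p.Prime) (S : Sylow p G) : IsSyl p (S : Subgroup G) ⊤ := by
  haveI := Fact.mk hp
  exact ⟨le_top, S.isPGroup', by rw [relIndex_top_right]; exact S.not_dvd_index⟩

theorem IsSyl.exists_sylow_top (hp : p.Prime) (h : IsSyl p P ⊤) : ∃ S : Sylow p G, ↑S = P := by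
  haveI := Fact.mk hp
  exact ⟨h.pgrp.toSylow (by simpa using h.ndvd), rfl⟩

theorem exists_invariant_isSyl (hp : p.Prime) {A : Subgroup G} (hA : A ≤ 𝐍(K))
    (hc : 𝐨(A).Coprime 𝐨(K)) (hs : Group.IsSolvable A ∨ Group.IsSolvable K) (hQ : IsPGroup p Q)
    (hQK : Q ≤ K) (hAQ : A ≤ 𝐍(Q)) : ∃ P, IsSyl p P K ∧ Q ≤ P ∧ A ≤ 𝐍(P) := by
  haveI := Fact.mk hp
  obtain ⟨P, h0, h1, h2, h3, h4⟩ := H1.exists_invariant_sylow_ge hA hc hs hQK hQ hAQ
  exact ⟨P, ⟨h1, h2, h3⟩, h0, h4⟩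

end syl

end Cfsg.Agent.FT
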