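/-
Odd order project, base library 3: cores, normal complements, `M_F`, products, sections.
-/
import Cfsg.Agent.FT.B.Pi

set_option autoImplicit false

namespace Cfsg.Agent.FT

open Subgroup Cfsg Cfsg.Agent
open scoped commutatorElement Pointwise

universe u

variable {G : Type u} [Group G]

/-! ### Products -/

section prod

variable {A B K H M N : Subgroup G}

theorem mem_sup_of_norm (h : B ≤ 𝐍(A)) {x : G} : x ∈ A ⊔ B ↔ ∃ a ∈ A, ∃ b ∈ B, a * b = x := by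
  rw [sup_comm]; exact H1.mem_sup_iff_of_le_normalizer' h

theorem mem_sup_of_norm' (h : B ≤ 𝐍(A)) {x : G} : x ∈ A ⊔ B ↔ ∃ b ∈ B, ∃ a ∈ A, b * a = x := by
  rw [sup_comm]; exact H1.mem_sup_iff_of_le_normalizer h

/-- Dedekind's modular law. -/
theorem sup_inf_of_le_left (h : B ≤ 𝐍(A)) (hA : A ≤ K) : (A ⊔ B) ⊓ K = A ⊔ (B ⊓ K) := by
  rw [inf_comm, sup_comm, H1.dedekind_right h hA, sup_comm, inf_comm]

/-- Dedekind's modular law. -/
theorem sup_inf_of_le_right (h : B ≤ 𝐍(A)) (hB : B ≤ K) : (A ⊔ B) ⊓ K = (A ⊓ K) ⊔ B := by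
  rw [inf_comm, sup_comm, H1.dedekind_left h hB, sup_comm, inf_comm]

theorem card_sup_mul_card_inf (h : B ≤ 𝐍(A)) : 𝐨(A ⊔ B) * 𝐨(A ⊓ B) = 𝐨(A) * 𝐨(B) := by
  rw [sup_comm, inf_comm, mul_comm 𝐨(A)]; exact H1.card_sup_mul_card_inf h

theorem relIndex_sup_of_norm (h : B ≤ 𝐍(A)) : A.relIndex (A ⊔ B) = A.relIndex B := by
  rw [sup_comm]; exact H1.relIndex_sup_of_le_normalizer h

theorem comm_sup_le (hA : A ≤ 𝐍(M)) (hB : B ≤ 𝐍(M)) (h1 : ⁅K, A⁆ ≤ M) (h2 : ⁅K, B⁆ ≤ M) :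
    ⁅K, A ⊔ B⁆ ≤ M := H1.commutator_sup_le hA hB h1 h2

/-- `(A B)' ≤ N` from the four commutators, when `A B` normalizes `N`. -/
theorem der_sup_le (hA : A ≤ 𝐍(N)) (hB : B ≤ 𝐍(N)) (h1 : ⁅A, A⁆ ≤ N) (h2 : ⁅A, B⁆ ≤ N)
    (h3 : ⁅B, B⁆ ≤ N) : ⁅A ⊔ B, A ⊔ B⁆ ≤ N := by
  refine comm_sup_le hA hB ?_ ?_ <;> rw [Subgroup.commutator_comm]
  · exact comm_sup_le hA hB h1 h2
  · exact comm_sup_le hA hB (by rwa [Subgroup.commutator_comm]) h3

namespace SdProd

variable (h : SdProd K H M)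
include h

theorem le_left : K ≤ M := h.sup ▸ le_sup_left
theorem le_right : H ≤ M := h.sup ▸ le_sup_right
theorem le_norm : M ≤ 𝐍(K) := h.sup ▸ sup_le le_normalizer h.norm
theorem normal : K ⊲ M := ⟨h.le_left, h.le_norm⟩
theorem mem_iff {x : G} : x ∈ M ↔ ∃ k ∈ K, ∃ y ∈ H, k * y = x := h.sup ▸ mem_sup_of_norm h.norm
theorem mem_iff' {x : G} : x ∈ M ↔ ∃ y ∈ H, ∃ k ∈ K, y * k = x := h.sup ▸ mem_sup_of_norm' h.norm

theorem card : 𝐨(M) = 𝐨(K) * 𝐨(H) := by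
  rw [← card_sup_mul_card_inf h.norm, h.disj, h.sup, card_bot, mul_one]

theorem relIndex_left : K.relIndex M = 𝐨(H) := by
  rw [← h.sup, relIndex_sup_of_norm h.norm, ← inf_relIndex_right, h.disj, relIndex_bot_left]

theorem relIndex_right [Finite G] : H.relIndex M = 𝐨(K) := by
  have := H1.card_mul_relIndex h.le_right
  rw [h.card, mul_comm 𝐨(K)] at this
  exact Nat.eq_of_mul_eq_mul_left Nat.card_pos this

theorem inf_of_le_left {L : Subgroup G} (hL : K ≤ L) : SdProd K (H ⊓ L) (M ⊓ L) :=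
  ⟨by rw [← h.sup, sup_inf_of_le_left h.norm hL], inf_le_left.trans h.norm,
    eq_bot_iff.2 ((inf_le_inf_left K inf_le_left).trans h.disj.le)⟩

theorem inf_of_le_right {L : Subgroup G} (hL : H ≤ L) (hn : H ≤ 𝐍(L)) :
    SdProd (K ⊓ L) H (M ⊓ L) :=
  ⟨by rw [← h.sup, sup_inf_of_le_right h.norm hL], H1.le_normalizer_inf h.norm hn,
    eq_bot_iff.2 ((inf_le_inf_right H inf_le_left).trans h.disj.le)⟩

theorem map {G' : Type*} [Group G'] {f : G →* G'} (hf : Function.Injective f) :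
    SdProd (K.map f) (H.map f) (M.map f) :=
  ⟨by rw [← Subgroup.map_sup, h.sup], (map_le_norm_iff hf).2 h.norm,
    by rw [← Subgroup.map_inf _ _ _ hf, h.disj, Subgroup.map_bot]⟩

theorem conj (g : G) : SdProd (K ^ᵍ g) (H ^ᵍ g) (M ^ᵍ g) := h.map (conj_injective g)

theorem conj_right {g : G} (hg : g ∈ M) : SdProd K (H ^ᵍ g) M := by
  simpa only [conj_eq_of_mem hg, conj_eq_of_mem_norm (h.le_norm hg)] using h.conj g

theorem hall [Finite G] {π : Set ℕ} (hK : IsPiSubgroup π K) (hH : IsPiSubgroup πᶜ H) :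
    IsPiHallOf π K M ∧ IsPiHallOf πᶜ H M := by
  have := hall_of_sup h.norm hH (by rwa [compl_compl])
  rw [h.sup, compl_compl] at this
  exact this.symm

/-- In `M = K ⋊ H` we have `M' = K' [K, H] H'`. -/
theorem der_le {N : Subgroup G} (hN : M ≤ 𝐍(N)) (h1 : ⁅K, K⁆ ≤ N) (h2 : ⁅K, H⁆ ≤ N)
    (h3 : ⁅H, H⁆ ≤ N) : ⁅M, M⁆ ≤ N :=
  h.sup ▸ der_sup_le (h.le_left.trans hN) (h.le_right.trans hN) h1 h2 h3

theorem der_le_sup : ⁅M, M⁆ ≤ K ⊔ ⁅H, H⁆ := by
  refine h.der_le ?_ ((FT.der_le K).trans le_sup_left)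
    ((comm_le_left_iff.2 h.norm).trans le_sup_left) le_sup_right
  rw [← h.sup]
  exact sup_le (le_sup_left.trans le_normalizer)
    (H1.le_normalizer_sup h.norm (der_normal H).2)

end SdProd

theorem sdProd_of_coprime (hn : H ≤ 𝐍(K)) (hc : 𝐨(K).Coprime 𝐨(H)) : SdProd K H (K ⊔ H) :=
  ⟨rfl, hn, H1.inf_eq_bot_of_coprime' hc⟩

theorem sdProd_of_hall [Finite G] {π : Set ℕ} (hK : IsPiHallOf π K M) (hH : IsPiHallOf πᶜ H M)
    (hn : M ≤ 𝐍(K)) : SdProd K H M :=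
  ⟨hall_sup_hall_compl hK hH, hH.1.trans hn, isPi_disjoint hK.2.1 hH.2.1⟩

theorem sdProd_of_card [Finite G] (hK : K ≤ M) (hH : H ≤ M) (hn : H ≤ 𝐍(K)) (hd : K ⊓ H = ⊥)
    (hc : 𝐨(M) ≤ 𝐨(K) * 𝐨(H)) : SdProd K H M :=
  ⟨H1.eq_of_le_of_card_le (sup_le hK hH)
    (hc.trans (SdProd.card (M := K ⊔ H) ⟨rfl, hn, hd⟩).ge), hn, hd⟩

/-- Schur-Zassenhaus. -/
theorem exists_sdProd_of_hall (hK : IsHallIn K M) (hn : M ≤ 𝐍(K)) : ∃ H, SdProd K H M := by
  obtain ⟨H, h1, h2, h3, -⟩ := H1.exists_complement_of_coprime hK.1 hn hK.2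
  exact ⟨H, by rwa [sup_comm], h1.trans hn, by rwa [inf_comm]⟩

namespace DProd

variable (h : DProd A B K)
include h

theorem symm : DProd B A K :=
  ⟨by rw [sup_comm, h.sup], cent_comm.1 h.cent, by rw [inf_comm, h.disj]⟩
theorem sdProd : SdProd A B K := ⟨h.sup, h.cent.trans (cent_le_norm A), h.disj⟩
theorem cProd : CProd A B K := ⟨h.sup, h.cent⟩
theorem le_left : A ≤ K := h.sdProd.le_left
theorem le_right : B ≤ K := h.sdProd.le_right
theorem normal_left : A ⊲ K := h.sdProd.normal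
theorem normal_right : B ⊲ K := h.symm.sdProd.normal
theorem card : 𝐨(K) = 𝐨(A) * 𝐨(B) := h.sdProd.card
theorem mem_iff {x : G} : x ∈ K ↔ ∃ a ∈ A, ∃ b ∈ B, a * b = x := h.sdProd.mem_iff
theorem commute {a b : G} (ha : a ∈ A) (hb : b ∈ B) : Commute a b := h.cent hb a ha

theorem map {G' : Type*} [Group G'] {f : G →* G'} (hf : Function.Injective f) :
    DProd (A.map f) (B.map f) (K.map f) :=
  ⟨(h.sdProd.map hf).sup, (map_le_cent_iff hf).2 h.cent, (h.sdProd.map hf).disj⟩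

theorem conj (g : G) : DProd (A ^ᵍ g) (B ^ᵍ g) (K ^ᵍ g) := h.map (conj_injective g)

theorem isMulComm (hA : IsMulCommutative A) (hB : IsMulCommutative B) : IsMulCommutative K :=
  h.sup ▸ isMulComm_sup hA hB h.cent

theorem isNilpotent [Finite G] (hA : Group.IsNilpotent A) (hB : Group.IsNilpotent B) :
    Group.IsNilpotent K :=
  h.sup ▸ H2.isNilpotent_sup_of_le_normalizer (h.symm.sdProd.norm) h.sdProd.norm hA hB

theorem der_eq : ⁅K, K⁆ = ⁅A, A⁆ ⊔ ⁅B, B⁆ := by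
  refine le_antisymm ?_ (sup_le (commutator_mono h.le_left h.le_left)
    (commutator_mono h.le_right h.le_right))
  refine h.sdProd.der_le ?_ le_sup_left ?_ le_sup_right
  · exact H1.le_normalizer_sup (h.normal_left.2.trans (norm_le_norm_der A))
      (h.normal_right.2.trans (norm_le_norm_der B))
  · rw [comm_eq_bot_iff.2 (cent_comm.1 h.cent)]; exact bot_le

theorem isCyclic [Finite G] (hA : IsCyclic A) (hB : IsCyclic B) (hc : 𝐨(A).Coprime 𝐨(B)) :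
    IsCyclic K := by
  obtain ⟨a, rfl⟩ := isCyclic_iff_zpowers.1 hA
  obtain ⟨b, rfl⟩ := isCyclic_iff_zpowers.1 hB
  rw [Nat.card_zpowers, Nat.card_zpowers] at hc
  have hab : Commute a b := h.commute (mem_zpowers a) (mem_zpowers b)
  refine isCyclic_iff_zpowers.2 ⟨a * b, H1.eq_of_le_of_card_le ?_ ?_⟩
  · exact zpowers_le.2 (mul_mem (h.le_left (mem_zpowers a)) (h.le_right (mem_zpowers b)))
  · rw [h.card, Nat.card_zpowers, Nat.card_zpowers, Nat.card_zpowers,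
      hab.orderOf_mul_eq_mul_orderOf_of_coprime hc]

end DProd

theorem dProd_of_normal (hA : B ≤ 𝐍(A)) (hB : A ≤ 𝐍(B)) (hd : A ⊓ B = ⊥) : DProd A B (A ⊔ B) :=
  ⟨rfl, cent_comm.1 (comm_eq_bot_iff.1 (eq_bot_iff.2
    ((le_inf (comm_le_left_iff.2 hA) (comm_le_right_iff.2 hB)).trans hd.le))), hd⟩

theorem le_cent_of_norm_of_disj (hA : B ≤ 𝐍(A)) (hB : A ≤ 𝐍(B)) (hd : A ⊓ B = ⊥) : B ≤ 𝐂(A) :=
  (dProd_of_normal hA hB hd).cent

theorem le_cent_of_norm_of_coprime (hA : B ≤ 𝐍(A)) (hB : A ≤ 𝐍(B)) (hc : 𝐨(A).Coprime 𝐨(B)) :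
    B ≤ 𝐂(A) := le_cent_of_norm_of_disj hA hB (H1.inf_eq_bot_of_coprime' hc)

/-- In a cyclic group a direct decomposition is coprime. -/
theorem DProd.coprime_of_isCyclic [Finite G] (h : DProd A B K) (hK : IsCyclic K) :
    𝐨(A).Coprime 𝐨(B) := by
  by_contra hc
  obtain ⟨p, hp, hA, hB⟩ := Nat.Prime.not_coprime_iff_dvd.1 hc
  obtain ⟨X, hX, hXc⟩ := exists_le_card_eq_prime hp hA
  obtain ⟨Y, hY, hYc⟩ := exists_le_card_eq_prime hp hB
  have hd : DProd X Y (X ⊔ Y) := ⟨rfl, hY.trans (h.cent.trans (cent_anti hX)),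
    eq_bot_iff.2 ((inf_le_inf hX hY).trans h.disj.le)⟩
  have hcyc : IsCyclic ↥(X ⊔ Y) :=
    isCyclic_of_le (sup_le (hX.trans h.le_left) (hY.trans h.le_right)) hK
  have he : Monoid.exponent ↥(X ⊔ Y) ∣ p := by
    refine Monoid.exponent_dvd_of_forall_pow_eq_one fun z => Subtype.ext ?_
    obtain ⟨x, hx, y, hy, e⟩ := hd.mem_iff.1 z.2
    have hx1 : x ^ p = 1 := orderOf_dvd_iff_pow_eq_one.1 (hXc ▸ orderOf_dvd_card_of_mem hx)
    have hy1 : y ^ p = 1 := orderOf_dvd_iff_pow_eq_one.1 (hYc ▸ orderOf_dvd_card_of_mem hy)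
    simp [← e, (hd.commute hx hy).mul_pow, hx1, hy1]
  rw [IsCyclic.exponent_eq_card, hd.card, hXc, hYc] at he
  have := Nat.le_of_dvd hp.pos he
  nlinarith [hp.one_lt]

end prod

/-! ### Cores -/

section core

variable [Finite G] {π ρ : Set ℕ} {p : ℕ} {A H K M N : Subgroup G}

theorem piCoreOf_normal (π : Set ℕ) (H : Subgroup G) : piCoreOf π H ⊲ H :=
  ⟨H2.piCoreOf_le π H, H2.le_normalizer_piCoreOf π H⟩

theorem isPi_piCoreOf (π : Set ℕ) (H : Subgroup G) : IsPiSubgroup π (piCoreOf π H) :=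
  H2.isPiSubgroup_piCoreOf π H

theorem norm_le_norm_piCoreOf (π : Set ℕ) (H : Subgroup G) : 𝐍(H) ≤ 𝐍(piCoreOf π H) :=
  H2.normalizer_le_normalizer_piCoreOf π H

theorem le_piCoreOf (hN : N ⊲ H) (h : IsPiSubgroup π N) : N ≤ piCoreOf π H :=
  (H2.SnIn.of_normal hN.1 hN.2).le_piCoreOf h

theorem piCoreOf_mono (h : π ⊆ ρ) (H : Subgroup G) : piCoreOf π H ≤ piCoreOf ρ H :=
  le_piCoreOf (piCoreOf_normal π H) (isPi_mono h (isPi_piCoreOf π H))

theorem piCoreOf_eq_self (h : IsPiSubgroup π H) : piCoreOf π H = H :=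
  le_antisymm (H2.piCoreOf_le π H) (le_piCoreOf ⟨le_rfl, le_normalizer⟩ h)

theorem piCoreOf_eq_bot (h : IsPiSubgroup πᶜ H) : piCoreOf π H = ⊥ :=
  eq_bot_of_isPi_of_isPi_compl (isPi_piCoreOf π H) (isPi_of_le (H2.piCoreOf_le π H) h)

theorem piCoreOf_of_normal (π : Set ℕ) (h : K ⊲ H) : piCoreOf π K = piCoreOf π H ⊓ K :=
  (H2.SnIn.of_normal h.1 h.2).piCoreOf_eq π

theorem piCoreOf_le_of_normal (π : Set ℕ) (h : K ⊲ H) : piCoreOf π K ≤ piCoreOf π H :=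
  (piCoreOf_of_normal π h).le.trans inf_le_left

theorem piCoreOf_inf_le (π : Set ℕ) (h : K ≤ H) : piCoreOf π H ⊓ K ≤ piCoreOf π K :=
  H2.piCoreOf_inf_le π h

theorem piCoreOf_congr (h : ∀ p : ℕ, p.Prime → p ∣ 𝐨(H) → (p ∈ π ↔ p ∈ ρ)) :
    piCoreOf π H = piCoreOf ρ H :=
  le_antisymm
    (le_piCoreOf (piCoreOf_normal π H) fun p hp hd =>
      (h p hp (hd.trans (card_dvd_of_le (H2.piCoreOf_le π H)))).1 (isPi_piCoreOf π H p hp hd))
    (le_piCoreOf (piCoreOf_normal ρ H) fun p hp hd =>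
      (h p hp (hd.trans (card_dvd_of_le (H2.piCoreOf_le ρ H)))).2 (isPi_piCoreOf ρ H p hp hd))

theorem piCoreOf_piCoreOf (π ρ : Set ℕ) (H : Subgroup G) :
    piCoreOf π (piCoreOf ρ H) = piCoreOf (π ∩ ρ) H := by
  refine le_antisymm (le_piCoreOf ⟨(H2.piCoreOf_le _ _).trans (H2.piCoreOf_le _ _),
    (piCoreOf_normal ρ H).2.trans (norm_le_norm_piCoreOf _ _)⟩
    (isPi_inter (isPi_piCoreOf _ _) (isPi_of_le (H2.piCoreOf_le _ _) (isPi_piCoreOf _ _)))) ?_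
  exact le_piCoreOf (normal_of_le (piCoreOf_normal _ H) (piCoreOf_mono Set.inter_subset_right H)
    (H2.piCoreOf_le _ _)) (isPi_mono Set.inter_subset_left (isPi_piCoreOf _ _))

theorem piCoreOf_le_hall (h : IsPiHallOf π H M) : piCoreOf π M ≤ H :=
  le_hall_of_normal h (H2.piCoreOf_le π M) (isPi_piCoreOf π M) (h.1.trans (piCoreOf_normal π M).2)

theorem piCoreOf_eq_of_hall_normal (h : IsPiHallOf π H M) (hn : M ≤ 𝐍(H)) : piCoreOf π M = H :=
  le_antisymm (piCoreOf_le_hall h) (le_piCoreOf ⟨h.1, hn⟩ h.2.1)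

theorem hall_piCoreOf_of_normal (h : IsPiHallOf π H M) (hn : M ≤ 𝐍(H)) :
    IsPiHallOf π (piCoreOf π M) M := (piCoreOf_eq_of_hall_normal h hn).symm ▸ h

theorem le_piCoreOf_of_hall (h : IsPiHallOf π (piCoreOf π M) M) (hK : K ≤ M)
    (hKπ : IsPiSubgroup π K) : K ≤ piCoreOf π M :=
  le_of_hall_normal h (piCoreOf_normal π M).2 hK hKπ

theorem mem_piCoreOf_of_hall (h : IsPiHallOf π (piCoreOf π M) M) {x : G} (hx : x ∈ M)
    (hxπ : IsPiElt π x) : x ∈ piCoreOf π M := mem_of_hall_normal h (piCoreOf_normal π M).2 hx hxπ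

theorem hall_eq_piCoreOf (h : IsPiHallOf π (piCoreOf π M) M) (hH : IsPiHallOf π H M) :
    H = piCoreOf π M :=
  le_antisymm (le_piCoreOf_of_hall h hH.1 hH.2.1) (piCoreOf_le_hall hH)

/-- π-closure passes to subgroups. -/
theorem piCoreOf_eq_inf_of_hall (h : IsPiHallOf π (piCoreOf π M) M) (hK : K ≤ M) :
    piCoreOf π K = piCoreOf π M ⊓ K :=
  le_antisymm (le_inf (le_piCoreOf_of_hall h ((H2.piCoreOf_le π K).trans hK) (isPi_piCoreOf π K))
    (H2.piCoreOf_le π K)) (piCoreOf_inf_le π hK)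

theorem hall_inf_of_hall_normal (h : IsPiHallOf π H M) (hn : M ≤ 𝐍(H)) (hK : K ≤ M) :
    IsPiHallOf π (H ⊓ K) K := by
  refine ⟨inf_le_right, isPi_of_le inf_le_left h.2.1, fun p hp hπ hd => h.2.2 p hp hπ ?_⟩
  rw [inf_relIndex_right, ← relIndex_sup_of_norm (hK.trans hn)] at hd
  exact hd.trans (Dvd.intro _ (relIndex_mul_relIndex H (H ⊔ K) M le_sup_left (sup_le h.1 hK)))

theorem hall_piCoreOf_of_le (h : IsPiHallOf π (piCoreOf π M) M) (hK : K ≤ M) :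
    IsPiHallOf π (piCoreOf π K) K := by
  rw [piCoreOf_eq_inf_of_hall h hK]; exact hall_inf_of_hall_normal h (piCoreOf_normal π M).2 hK

theorem piCoreOf_le_cent (h : Disjoint π ρ) (H : Subgroup G) : piCoreOf π H ≤ 𝐂(piCoreOf ρ H) :=
  le_cent_of_norm_of_coprime ((H2.piCoreOf_le π H).trans (piCoreOf_normal ρ H).2)
    ((H2.piCoreOf_le ρ H).trans (piCoreOf_normal π H).2)
    (isPi_coprime' (isPi_piCoreOf ρ H) (isPi_piCoreOf π H) h.symm)

theorem pCoreOf_eq (hp : p.Prime) (H : Subgroup G) : pCoreOf p H = piCoreOf {p} H := by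
  unfold pCoreOf piCoreOf; rw [L.pCore_eq_piCore hp]

theorem pPrimeCoreOf_eq (hp : p.Prime) (H : Subgroup G) :
    H2.pPrimeCoreOf p H = piCoreOf {p}ᶜ H := by
  unfold H2.pPrimeCoreOf piCoreOf; rw [L.pPrimeCore_eq_piCore hp]

theorem pCoreOf_normal (p : ℕ) (H : Subgroup G) : pCoreOf p H ⊲ H :=
  ⟨H2.pCoreOf_le p H, H2.le_normalizer_pCoreOf p H⟩

theorem pPrimeCoreOf_normal (p : ℕ) (H : Subgroup G) : H2.pPrimeCoreOf p H ⊲ H :=
  ⟨H2.pPrimeCoreOf_le p H, H2.le_normalizer_pPrimeCoreOf p H⟩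

theorem le_pCoreOf (hN : N ⊲ H) (h : IsPGroup p N) : N ≤ pCoreOf p H :=
  (H2.SnIn.of_normal hN.1 hN.2).le_pCoreOf h

theorem le_pPrimeCoreOf (hN : N ⊲ H) (h : 𝐨(N).Coprime p) : N ≤ H2.pPrimeCoreOf p H :=
  (H2.SnIn.of_normal hN.1 hN.2).le_pPrimeCoreOf h

theorem not_dvd_card_pPrimeCoreOf (hp : p.Prime) (H : Subgroup G) : ¬ p ∣ 𝐨(H2.pPrimeCoreOf p H) :=
  hp.coprime_iff_not_dvd.1 (H2.coprime_card_pPrimeCoreOf p H).symm

theorem IsSyl.pCoreOf_le (hp : p.Prime) {P : Subgroup G} (h : IsSyl p P H) : pCoreOf p H ≤ P := by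
  haveI := Fact.mk hp; exact H2.pCoreOf_le_of_sylow h.le h.pgrp h.ndvd

theorem IsSyl.pCoreOf_eq (hp : p.Prime) {P : Subgroup G} (h : IsSyl p P H) (hn : H ≤ 𝐍(P)) :
    pCoreOf p H = P := le_antisymm (h.pCoreOf_le hp) (le_pCoreOf ⟨h.le, hn⟩ h.pgrp)

theorem fittingOf_normal (H : Subgroup G) : fittingOf H ⊲ H :=
  ⟨H2.fittingOf_le H, H2.le_normalizer_fittingOf H⟩

theorem le_fittingOf (hN : N ⊲ H) (h : Group.IsNilpotent N) : N ≤ fittingOf H :=
  (H2.SnIn.of_normal hN.1 hN.2).le_fittingOf h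

theorem fittingOf_of_normal (h : K ⊲ H) : fittingOf K = fittingOf H ⊓ K :=
  (H2.SnIn.of_normal h.1 h.2).fittingOf_eq

theorem fittingOf_le_of_normal (h : K ⊲ H) : fittingOf K ≤ fittingOf H :=
  (fittingOf_of_normal h).le.trans inf_le_left

theorem pCoreOf_fittingOf (hp : p.Prime) (H : Subgroup G) :
    pCoreOf p (fittingOf H) = pCoreOf p H := by
  rw [(H2.snIn_fittingOf H).pCoreOf_eq p, inf_eq_left.2 (H2.pCoreOf_le_fittingOf hp H)]

theorem piCoreOf_fittingOf (π : Set ℕ) (H : Subgroup G) :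
    piCoreOf π (fittingOf H) = fittingOf (piCoreOf π H) := by
  rw [piCoreOf_of_normal π (fittingOf_normal H), fittingOf_of_normal (piCoreOf_normal π H),
    inf_comm]

/-! #### Nilpotent groups -/

theorem le_piCoreOf_of_isNilpotent (hH : Group.IsNilpotent H) (hA : A ≤ H)
    (h : IsPiSubgroup π A) : A ≤ piCoreOf π H := (H2.snIn_of_isNilpotent hA).le_piCoreOf h

theorem hall_piCoreOf_of_isNilpotent (hH : Group.IsNilpotent H) (π : Set ℕ) :
    IsPiHallOf π (piCoreOf π H) H := by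
  obtain ⟨K, hK⟩ := exists_hall (isSolvable_of_isNilpotent hH) π
  rwa [← le_antisymm (le_piCoreOf_of_isNilpotent hH hK.1 hK.2.1) (piCoreOf_le_hall hK)]

theorem hall_eq_piCoreOf_of_isNilpotent (hH : Group.IsNilpotent H) (hK : IsPiHallOf π K H) :
    K = piCoreOf π H := hall_eq_piCoreOf (hall_piCoreOf_of_isNilpotent hH π) hK

theorem norm_le_norm_hall_of_isNilpotent (hH : Group.IsNilpotent H) (hK : IsPiHallOf π K H) :
    𝐍(H) ≤ 𝐍(K) := hall_eq_piCoreOf_of_isNilpotent hH hK ▸ norm_le_norm_piCoreOf π H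

theorem dProd_piCoreOf_of_isNilpotent (hH : Group.IsNilpotent H) (π : Set ℕ) :
    DProd (piCoreOf π H) (piCoreOf πᶜ H) H :=
  ⟨hall_sup_hall_compl (hall_piCoreOf_of_isNilpotent hH π) (hall_piCoreOf_of_isNilpotent hH πᶜ),
    piCoreOf_le_cent disjoint_compl_left H, isPi_disjoint (isPi_piCoreOf _ _) (isPi_piCoreOf _ _)⟩

theorem isSyl_pCoreOf_of_isNilpotent (hp : p.Prime) (hH : Group.IsNilpotent H) :
    IsSyl p (pCoreOf p H) H := by
  rw [isSyl_iff_hall hp, pCoreOf_eq hp]; exact hall_piCoreOf_of_isNilpotent hH _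

theorem IsSyl.eq_pCoreOf_of_isNilpotent (hp : p.Prime) (hH : Group.IsNilpotent H) {P : Subgroup G}
    (h : IsSyl p P H) : P = pCoreOf p H := by
  rw [FT.pCoreOf_eq hp]; exact hall_eq_piCoreOf_of_isNilpotent hH ((isSyl_iff_hall hp).1 h)

theorem IsSyl.norm_le_of_isNilpotent (hp : p.Prime) (hH : Group.IsNilpotent H) {P : Subgroup G}
    (h : IsSyl p P H) : 𝐍(H) ≤ 𝐍(P) := norm_le_norm_hall_of_isNilpotent hH ((isSyl_iff_hall hp).1 h)

theorem dProd_pCoreOf_of_isNilpotent (hp : p.Prime) (hH : Group.IsNilpotent H) :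
    DProd (pCoreOf p H) (H2.pPrimeCoreOf p H) H := by
  rw [pCoreOf_eq hp, pPrimeCoreOf_eq hp]; exact dProd_piCoreOf_of_isNilpotent hH _

/-- Subgroups of coprime orders of a nilpotent group commute. -/
theorem le_cent_of_coprime_of_isNilpotent (hH : Group.IsNilpotent H) {B : Subgroup G} (hA : A ≤ H)
    (hB : B ≤ H) (hc : 𝐨(A).Coprime 𝐨(B)) : A ≤ 𝐂(B) :=
  (le_piCoreOf_of_isNilpotent hH hA (coprime_iff_isPi_compl.1 hc)).trans
    ((piCoreOf_le_cent disjoint_compl_left H).trans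
      (cent_anti (le_piCoreOf_of_isNilpotent hH hB (isPi_piOf B))))

theorem isNilpotent_of_forall_isSyl_normal
    (h : ∀ p : ℕ, p.Prime → p ∣ 𝐨(H) → ∃ P, IsSyl p P H ∧ H ≤ 𝐍(P)) : Group.IsNilpotent H := by
  refine isNilpotent_of_le (B := fittingOf H) (le_of_forall_exists_isSyl_le fun p hp hd => ?_)
    inferInstance
  obtain ⟨P, hP, hn⟩ := h p hp hd
  exact ⟨P, hP, le_fittingOf ⟨hP.le, hn⟩ (isNilpotent_of_isPGroup hp hP.pgrp)⟩

theorem isCyclic_of_isNilpotent_of_isZGroup (hH : Group.IsNilpotent H) (hZ : IsZGroup H) :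
    IsCyclic H := inferInstance

theorem isZGroup_iff_isSyl : IsZGroup H ↔ ∀ p : ℕ, p.Prime → ∀ P, IsSyl p P H → IsCyclic P := by
  constructor
  · intro h p hp P hP
    obtain ⟨S, hS⟩ := hP.exists_sylow hp
    have := h.isZGroup p hp S
    rw [hS] at this
    exact (subgroupOfEquivOfLe hP.le).isCyclic.1 this
  · intro h
    exact ⟨fun p hp S => (isCyclic_map_iff H.subtype_injective).1 (h p hp _ (isSyl_map_subtype hp S))⟩

/-! #### Normal `p`-complements -/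

theorem hasNPC_iff (hp : p.Prime) : HasNPC p H ↔ HasNormalPComplement p H := by
  haveI := Fact.mk hp
  have e : (H2.pPrimeCoreOf p H).relIndex H = (pPrimeCore p H).index := by
    unfold H2.pPrimeCoreOf
    rw [relIndex, subgroupOf, comap_map_eq_self_of_injective H.subtype_injective]
  rw [H8.hasNPC_iff_isPGroup_quotient_pPrimeCore, H8.isPGroup_quotient_iff_index, HasNPC,
    H1.isPiHallOf_iff, e, compl_compl, L.isPiNum_singleton_iff hp (index_ne_zero_of_finite)]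
  exact ⟨fun h => h.2.2, fun h => ⟨H2.pPrimeCoreOf_le p H,
    (isPi_compl_singleton_iff hp).2 (H2.coprime_card_pPrimeCoreOf p H), h⟩⟩

theorem hasNPC_of_normal (hp : p.Prime) (h : IsPiHallOf {p}ᶜ K H) (hn : H ≤ 𝐍(K)) : HasNPC p H := by
  unfold HasNPC; rw [pPrimeCoreOf_eq hp]; exact hall_piCoreOf_of_normal h hn

theorem HasNPC.of_le (hp : p.Prime) (h : HasNPC p H) (hK : K ≤ H) : HasNPC p K := by
  unfold HasNPC at *; rw [pPrimeCoreOf_eq hp] at *; exact hall_piCoreOf_of_le h hK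

theorem HasNPC.sdProd (hp : p.Prime) (h : HasNPC p H) {P : Subgroup G} (hP : IsSyl p P H) :
    SdProd (H2.pPrimeCoreOf p H) P H :=
  sdProd_of_hall h (by rw [compl_compl]; exact (isSyl_iff_hall hp).1 hP) (pPrimeCoreOf_normal p H).2

theorem HasNPC.le_pPrimeCoreOf (hp : p.Prime) (h : HasNPC p H) (hK : K ≤ H) (hc : ¬ p ∣ 𝐨(K)) :
    K ≤ H2.pPrimeCoreOf p H :=
  le_of_hall_normal h (pPrimeCoreOf_normal p H).2 hK ((isPi_compl_singleton_iff' hp).2 hc)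

/-- With a normal `p`-complement, `p'`-subgroups normalizing a `p`-subgroup centralize it. -/
theorem HasNPC.le_cent (hp : p.Prime) (h : HasNPC p H) {P : Subgroup G} (hP : IsPGroup p P)
    (hPH : P ≤ H) (hK : K ≤ H) (hc : ¬ p ∣ 𝐨(K)) (hn : K ≤ 𝐍(P)) : K ≤ 𝐂(P) := by
  have h1 := h.le_pPrimeCoreOf hp hK hc
  rw [← comm_eq_bot_iff, eq_bot_iff]
  refine (le_inf (comm_le_right_iff.2 hn) ((commutator_mono h1 le_rfl).trans
    (comm_le_left_iff.2 (hPH.trans (pPrimeCoreOf_normal p H).2)))).trans (le_of_eq ?_)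
  exact isPi_disjoint ((isPi_singleton_iff hp).2 hP) h.2.1

theorem hasNPC_of_not_dvd (hp : p.Prime) (h : ¬ p ∣ 𝐨(H)) : HasNPC p H :=
  hasNPC_of_normal hp (hall_self ((isPi_compl_singleton_iff' hp).2 h)) le_normalizer

theorem hasNPC_of_isNilpotent (hp : p.Prime) (h : Group.IsNilpotent H) : HasNPC p H := by
  unfold HasNPC; rw [pPrimeCoreOf_eq hp]; exact hall_piCoreOf_of_isNilpotent h _

/-! #### `O_{p',p}` -/

theorem pPrimePCoreOf_normal (p : ℕ) (H : Subgroup G) : pPrimePCoreOf p H ⊲ H :=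
  ⟨map_subtype_le _, H2.le_normalizer_map_subtype _⟩

theorem pPrimeCoreOf_le_pPrimePCoreOf (p : ℕ) (H : Subgroup G) :
    H2.pPrimeCoreOf p H ≤ pPrimePCoreOf p H := map_mono (L.pPrimeCore_le_pPrimePCore p)

theorem pCoreOf_le_pPrimePCoreOf (p : ℕ) (H : Subgroup G) : pCoreOf p H ≤ pPrimePCoreOf p H :=
  map_mono (L.pCore_le_pPrimePCore p)

theorem hasNPC_pPrimePCoreOf (hp : p.Prime) (H : Subgroup G) : HasNPC p (pPrimePCoreOf p H) := by
  refine hasNPC_of_normal hp (K := H2.pPrimeCoreOf p H) ?_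
    ((pPrimePCoreOf_normal p H).1.trans (pPrimeCoreOf_normal p H).2)
  rw [H1.isPiHallOf_iff, compl_compl]
  refine ⟨pPrimeCoreOf_le_pPrimePCoreOf p H,
    (isPi_compl_singleton_iff hp).2 (H2.coprime_card_pPrimeCoreOf p H), ?_⟩
  unfold H2.pPrimeCoreOf pPrimePCoreOf pPrimePCore
  rw [relIndex_map_map_of_injective _ _ H.subtype_injective, L.pCore_eq_piCore hp]
  exact L.isPiNum_relIndex_comap_piCore _ _

theorem pPrimeCoreOf_pPrimePCoreOf (hp : p.Prime) (H : Subgroup G) :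
    H2.pPrimeCoreOf p (pPrimePCoreOf p H) = H2.pPrimeCoreOf p H := by
  rw [pPrimeCoreOf_eq hp, piCoreOf_of_normal _ (pPrimePCoreOf_normal p H), ← pPrimeCoreOf_eq hp,
    inf_eq_left.2 (pPrimeCoreOf_le_pPrimePCoreOf p H)]

/-- `O_{p',p}(H)` is the largest normal subgroup with a normal `p`-complement. -/
theorem le_pPrimePCoreOf (hp : p.Prime) (hN : N ⊲ H) (h : HasNPC p N) : N ≤ pPrimePCoreOf p H := by
  rw [pPrimePCoreOf, H2.le_map_subtype_iff hN.1, pPrimePCore, L.pCore_eq_piCore hp]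
  haveI := H1.normal_subgroupOf_of_le hN.2
  refine L.le_comap_piCore_of_relIndex (N := (H2.pPrimeCoreOf p N).subgroupOf H) ?_ ?_
  · rw [← H2.le_map_subtype_iff ((H2.pPrimeCoreOf_le p N).trans hN.1)]
    exact le_pPrimeCoreOf ⟨(H2.pPrimeCoreOf_le p N).trans hN.1,
      hN.2.trans (H2.normalizer_le_normalizer_pPrimeCoreOf p N)⟩ (H2.coprime_card_pPrimeCoreOf p N)
  · rw [relIndex_subgroupOf hN.1]
    simpa only [compl_compl] using (H1.isPiHallOf_iff.1 h).2.2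

theorem pPrimePCoreOf_eq_sup (hp : p.Prime) {T : Subgroup G} (hT : IsSyl p T (pPrimePCoreOf p H)) :
    H2.pPrimeCoreOf p H ⊔ T = pPrimePCoreOf p H := by
  rw [← pPrimeCoreOf_pPrimePCoreOf hp]; exact ((hasNPC_pPrimePCoreOf hp H).sdProd hp hT).sup

theorem pPrimePCoreOf_eq_pCoreOf (hp : p.Prime) (h : H2.pPrimeCoreOf p H = ⊥) :
    pPrimePCoreOf p H = pCoreOf p H := by
  unfold pPrimePCoreOf pCoreOf
  rw [L.pPrimePCore_eq_pCore hp ((map_eq_bot_iff_of_injective _ H.subtype_injective).1 h)]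

/-! #### `M_F` -/

theorem fittingHall_spec (M : Type u) [Group M] [Finite M] :
    Group.IsNilpotent (fittingHall M) ∧ 𝐨(fittingHall M).Coprime (fittingHall M).index := by
  refine L.sSup_normal_prop (fun N : Subgroup M => Group.IsNilpotent N ∧ 𝐨(N).Coprime N.index)
    ⟨inferInstance, by simp⟩ fun A B hA hB h1 h2 => ⟨L.isNilpotent_sup_of_normal A B h1.1 h2.1, ?_⟩
  refine Nat.Coprime.coprime_dvd_left (L.card_sup_dvd_mul_of_normal A B) (Nat.Coprime.mul_left ?_ ?_)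
  · exact h1.2.coprime_dvd_right (index_dvd_of_le le_sup_left)
  · exact h2.2.coprime_dvd_right (index_dvd_of_le le_sup_right)

theorem MF_normal (M : Subgroup G) : MF M ⊲ M := ⟨map_subtype_le _, H2.le_normalizer_map_subtype _⟩

theorem MF_le (M : Subgroup G) : MF M ≤ M := (MF_normal M).1

theorem isNilpotent_MF (M : Subgroup G) : Group.IsNilpotent (MF M) :=
  (isNilpotent_map_iff M.subtype_injective).2 (fittingHall_spec M).1

theorem isHallIn_MF (M : Subgroup G) : IsHallIn (MF M) M := by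
  refine ⟨MF_le M, ?_⟩
  unfold MF fittingHallOf
  rw [relIndex, subgroupOf, comap_map_eq_self_of_injective M.subtype_injective,
    card_map_inj M.subtype_injective]
  exact (fittingHall_spec M).2

theorem le_MF (hN : N ⊲ M) (h1 : Group.IsNilpotent N) (h2 : IsHallIn N M) : N ≤ MF M := by
  rw [MF, fittingHallOf, H2.le_map_subtype_iff hN.1]
  refine le_sSup ⟨H1.normal_subgroupOf_of_le hN.2, (H2.isNilpotent_subgroupOf_iff hN.1).2 h1, ?_⟩
  rw [H2.card_subgroupOf_of_le hN.1]; exact h2.2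

theorem MF_le_fittingOf (M : Subgroup G) : MF M ≤ fittingOf M :=
  le_fittingOf (MF_normal M) (isNilpotent_MF M)

theorem hall_MF (M : Subgroup G) : IsPiHallOf (piOf (MF M)) (MF M) M := (isHallIn_MF M).hall

theorem MF_eq_piCoreOf (M : Subgroup G) : MF M = piCoreOf (piOf (MF M)) M :=
  (piCoreOf_eq_of_hall_normal (hall_MF M) (MF_normal M).2).symm

theorem IsSyl.le_MF (hp : p.Prime) {P : Subgroup G} (h : IsSyl p P M) (hn : M ≤ 𝐍(P)) : P ≤ MF M :=
  FT.le_MF ⟨h.le, hn⟩ (isNilpotent_of_isPGroup hp h.pgrp)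
    (hall_isHallIn ((isSyl_iff_hall hp).1 h))

theorem isSyl_pCoreOf_of_dvd_MF (hp : p.Prime) (h : p ∣ 𝐨(MF M)) : IsSyl p (pCoreOf p M) M := by
  have h1 := (isSyl_pCoreOf_of_isNilpotent hp (isNilpotent_MF M)).trans_hall hp (hall_MF M) ⟨hp, h⟩
  rwa [h1.pCoreOf_eq hp ((MF_normal M).2.trans (H2.normalizer_le_normalizer_pCoreOf p _))]

theorem pCoreOf_MF (hp : p.Prime) (h : p ∣ 𝐨(MF M)) : pCoreOf p (MF M) = pCoreOf p M := by
  have h1 := (isSyl_pCoreOf_of_isNilpotent hp (isNilpotent_MF M)).trans_hall hp (hall_MF M) ⟨hp, h⟩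
  exact (h1.pCoreOf_eq hp ((MF_normal M).2.trans (H2.normalizer_le_normalizer_pCoreOf p _))).symm

theorem MF_eq_self (h : Group.IsNilpotent M) : MF M = M :=
  le_antisymm (MF_le M) (le_MF ⟨le_rfl, le_normalizer⟩ h ⟨le_rfl, by simp⟩)

end core

/-! ### More transport -/

section map

variable [Finite G] {G' : Type u} [Group G'] [Finite G'] {f : G →* G'} (hf : Function.Injective f)
include hf

theorem pCoreOf_map {p : ℕ} (hp : p.Prime) (H : Subgroup G) :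
    pCoreOf p (H.map f) = (pCoreOf p H).map f := by
  rw [pCoreOf_eq hp, pCoreOf_eq hp, piCoreOf_map hf]

theorem pPrimeCoreOf_map {p : ℕ} (hp : p.Prime) (H : Subgroup G) :
    H2.pPrimeCoreOf p (H.map f) = (H2.pPrimeCoreOf p H).map f := by
  rw [pPrimeCoreOf_eq hp, pPrimeCoreOf_eq hp, piCoreOf_map hf]

theorem hasNPC_map_iff {p : ℕ} (hp : p.Prime) {H : Subgroup G} : HasNPC p (H.map f) ↔ HasNPC p H := by
  unfold HasNPC; rw [pPrimeCoreOf_map hf hp, isPiHallOf_map_iff hf]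

omit [Finite G] [Finite G'] hf in
theorem exists_eq_map_of_le_map {H : Subgroup G} {K : Subgroup G'} (h : K ≤ H.map f) :
    ∃ L : Subgroup G, L ≤ H ∧ L.map f = K := by
  refine ⟨K.comap f ⊓ H, inf_le_right, le_antisymm ?_ fun y hy => ?_⟩
  · exact (map_mono inf_le_left).trans (map_comap_le f K)
  · obtain ⟨x, hx, rfl⟩ := h hy; exact ⟨x, ⟨hy, hx⟩, rfl⟩

theorem pPrimePCoreOf_map {p : ℕ} (hp : p.Prime) (H : Subgroup G) :
    pPrimePCoreOf p (H.map f) = (pPrimePCoreOf p H).map f := by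
  apply le_antisymm
  · obtain ⟨L, hL, e⟩ := exists_eq_map_of_le_map (pPrimePCoreOf_normal p (H.map f)).1
    have h1 := (pPrimePCoreOf_normal p (H.map f)).2
    have h2 := hasNPC_pPrimePCoreOf hp (H.map f)
    rw [← e] at h1 h2 ⊢
    exact map_mono (le_pPrimePCoreOf hp ⟨hL, (map_le_norm_iff hf).1 h1⟩ ((hasNPC_map_iff hf hp).1 h2))
  · exact le_pPrimePCoreOf hp ⟨map_mono (pPrimePCoreOf_normal p H).1,
      (map_le_norm_iff hf).2 (pPrimePCoreOf_normal p H).2⟩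
      ((hasNPC_map_iff hf hp).2 (hasNPC_pPrimePCoreOf hp H))

theorem MF_map (H : Subgroup G) : MF (H.map f) = (MF H).map f := by
  apply le_antisymm
  · obtain ⟨L, hL, e⟩ := exists_eq_map_of_le_map (MF_le (H.map f))
    have h1 := (MF_normal (H.map f)).2
    have h2 := isNilpotent_MF (H.map f)
    have h3 := isHallIn_MF (H.map f)
    rw [← e] at h1 h2 h3 ⊢
    exact map_mono (le_MF ⟨hL, (map_le_norm_iff hf).1 h1⟩ ((isNilpotent_map_iff hf).1 h2)
      ((isHallIn_map_iff hf).1 h3))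
  · exact le_MF ⟨map_mono (MF_le H), (map_le_norm_iff hf).2 (MF_normal H).2⟩
      ((isNilpotent_map_iff hf).2 (isNilpotent_MF H)) ((isHallIn_map_iff hf).2 (isHallIn_MF H))

end map

section conj

variable [Finite G] (g : G) (H : Subgroup G)

theorem piCoreOf_conj (π : Set ℕ) : piCoreOf π (H ^ᵍ g) = piCoreOf π H ^ᵍ g :=
  piCoreOf_map (conj_injective g) π H
theorem pCoreOf_conj {p : ℕ} (hp : p.Prime) : pCoreOf p (H ^ᵍ g) = pCoreOf p H ^ᵍ g :=
  pCoreOf_map (conj_injective g) hp H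
theorem pPrimeCoreOf_conj {p : ℕ} (hp : p.Prime) :
    H2.pPrimeCoreOf p (H ^ᵍ g) = H2.pPrimeCoreOf p H ^ᵍ g := pPrimeCoreOf_map (conj_injective g) hp H
theorem pPrimePCoreOf_conj {p : ℕ} (hp : p.Prime) :
    pPrimePCoreOf p (H ^ᵍ g) = pPrimePCoreOf p H ^ᵍ g := pPrimePCoreOf_map (conj_injective g) hp H
theorem fittingOf_conj : fittingOf (H ^ᵍ g) = fittingOf H ^ᵍ g := fittingOf_map (conj_injective g) H
theorem MF_conj : MF (H ^ᵍ g) = MF H ^ᵍ g := MF_map (conj_injective g) H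
omit [Finite G] in
theorem omegaOne_conj (p : ℕ) : omegaOne p (H ^ᵍ g) = omegaOne p H ^ᵍ g :=
  omegaOne_map (conj_injective g) p H
omit [Finite G] in
theorem piOf_conj : piOf (H ^ᵍ g) = piOf H := piOf_map (conj_injective g) H

theorem norm_le_norm_MF : 𝐍(H) ≤ 𝐍(MF H) := fun g hg => by
  rw [← conj_eq_self_iff, ← MF_conj, conj_eq_of_mem_norm hg]

theorem norm_le_norm_pPrimePCoreOf {p : ℕ} (hp : p.Prime) : 𝐍(H) ≤ 𝐍(pPrimePCoreOf p H) :=
  fun g hg => by rw [← conj_eq_self_iff, ← pPrimePCoreOf_conj g H hp, conj_eq_of_mem_norm hg]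

omit [Finite G] in
theorem norm_le_norm_omegaOne (p : ℕ) : 𝐍(H) ≤ 𝐍(omegaOne p H) := fun g hg => by
  rw [← conj_eq_self_iff, ← omegaOne_conj, conj_eq_of_mem_norm hg]

end conj

end Cfsg.Agent.FT
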