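/-
Odd order project, base library 4: elementary abelian subgroups, `Ω₁`, ranks.
-/
import Cfsg.Agent.FT.B.Core

set_option autoImplicit false

namespace Cfsg.Agent.FT

open Subgroup Cfsg Cfsg.Agent
open scoped commutatorElement Pointwise

universe u

variable {G : Type u} [Group G] {p n : ℕ} {A B H K M P : Subgroup G}

/-! ### Elementary abelian subgroups -/

theorem elemAb_of_le (h : A ≤ B) (hB : IsElementaryAbelian p B) : IsElementaryAbelian p A :=
  ⟨isMulComm_of_le h hB.1, fun a ha => hB.2 a (h ha)⟩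

theorem elemAb_bot (p : ℕ) : IsElementaryAbelian p (⊥ : Subgroup G) :=
  ⟨isMulComm_iff_le_cent.2 bot_le, fun a ha => by rw [mem_bot.1 ha, one_pow]⟩

theorem elemAb_isPGroup (h : IsElementaryAbelian p A) : IsPGroup p A :=
  L.IsElementaryAbelian.isPGroup h

theorem elemAb_sup (hA : IsElementaryAbelian p A) (hB : IsElementaryAbelian p B) (h : B ≤ 𝐂(A)) :
    IsElementaryAbelian p (A ⊔ B) := by
  refine ⟨isMulComm_sup hA.1 hB.1 h, fun x hx => ?_⟩
  obtain ⟨a, ha, b, hb, rfl⟩ := (mem_sup_of_norm (h.trans (cent_le_norm A))).1 hx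
  rw [(show Commute a b from h hb a ha).mul_pow, hA.2 a ha, hB.2 b hb, one_mul]

theorem elemAb_zpowers {x : G} (h : x ^ p = 1) : IsElementaryAbelian p (zpowers x) := by
  refine ⟨inferInstance, ?_⟩
  rintro _ ⟨k, rfl⟩
  show (x ^ k) ^ p = 1
  rw [← zpow_natCast, ← zpow_mul, mul_comm, zpow_mul, zpow_natCast, h, one_zpow]

theorem elemAb_of_card_prime (hp : p.Prime) (h : 𝐨(A) = p) : IsElementaryAbelian p A :=
  ⟨isMulComm_of_isCyclic (isCyclic_of_card_prime (h ▸ hp)),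
    fun _ ha => orderOf_dvd_iff_pow_eq_one.1 (h ▸ orderOf_dvd_card_of_mem ha)⟩

theorem elemAb_orderOf (hp : p.Prime) (h : IsElementaryAbelian p A) {x : G} (hx : x ∈ A)
    (h1 : x ≠ 1) : orderOf x = p := by
  haveI := Fact.mk hp; exact orderOf_eq_prime (h.2 x hx) h1

theorem elemAb_exists_isElem [Finite G] (hp : p.Prime) (h : IsElementaryAbelian p A) :
    ∃ n, IsElem p n A := by
  obtain ⟨n, hn⟩ := exists_card_eq_pow hp (elemAb_isPGroup h); exact ⟨n, h, hn⟩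

theorem isElem_one_iff (hp : p.Prime) : IsElem p 1 A ↔ 𝐨(A) = p :=
  ⟨fun h => by rw [h.2, pow_one], fun h => ⟨elemAb_of_card_prime hp h, by rw [h, pow_one]⟩⟩

theorem isElem_zero_bot (p : ℕ) : IsElem p 0 (⊥ : Subgroup G) := ⟨elemAb_bot p, by simp⟩

namespace IsElem

theorem elemAb (h : IsElem p n A) : IsElementaryAbelian p A := h.1
theorem card (h : IsElem p n A) : 𝐨(A) = p ^ n := h.2
theorem comm (h : IsElem p n A) : IsMulCommutative A := h.1.1
theorem le_cent (h : IsElem p n A) : A ≤ 𝐂(A) := isMulComm_iff_le_cent.1 h.1.1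
theorem pgrp (h : IsElem p n A) : IsPGroup p A := elemAb_isPGroup h.1
theorem conj (h : IsElem p n A) (g : G) : IsElem p n (A ^ᵍ g) :=
  (isElem_map_iff (conj_injective g)).2 h

theorem ne_bot (hp : p.Prime) (h : IsElem p n A) (hn : n ≠ 0) : A ≠ ⊥ := by
  rintro rfl
  have := h.2
  rw [card_bot] at this
  exact (Nat.one_lt_pow hn hp.one_lt).ne this

theorem prime_dvd (h : IsElem p n A) (hn : n ≠ 0) : p ∣ 𝐨(A) := h.2 ▸ dvd_pow_self p hn

theorem not_isCyclic [Finite G] (hp : p.Prime) (h : IsElem p n A) (hn : 2 ≤ n) : ¬ IsCyclic A := by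
  intro hc
  obtain ⟨x, rfl⟩ := isCyclic_iff_zpowers.1 hc
  have h1 : orderOf x ∣ p := orderOf_dvd_iff_pow_eq_one.2 (h.1.2 x (mem_zpowers x))
  rw [← Nat.card_zpowers, h.2] at h1
  have := (Nat.pow_dvd_pow_iff_le_right hp.one_lt).1 (h1.trans (dvd_of_eq (pow_one p).symm))
  omega

theorem le_of_le (hp : p.Prime) {m : ℕ} (h : IsElem p n A) (hB : IsElem p m B) (hBA : B ≤ A) :
    m ≤ n := by
  have := card_dvd_of_le hBA
  rw [h.2, hB.2] at this
  exact (Nat.pow_dvd_pow_iff_le_right hp.one_lt).1 this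

theorem eq_of_le [Finite G] (h : IsElem p n A) (hB : IsElem p n B) (hBA : B ≤ A) : B = A :=
  H1.eq_of_le_of_card_le hBA (by rw [h.2, hB.2])

theorem exists_between [Finite G] (hp : p.Prime) {m k : ℕ} (h : IsElem p n A) (hB : IsElem p m B)
    (hBA : B ≤ A) (hmk : m ≤ k) (hkn : k ≤ n) : ∃ C : Subgroup G, B ≤ C ∧ C ≤ A ∧ IsElem p k C := by
  haveI := Fact.mk hp
  obtain ⟨C, hC, hBC⟩ := Sylow.exists_subgroup_card_pow_prime_le p (G := A) (n := m) (m := k)
    (by rw [h.2]; exact pow_dvd_pow p hkn) (B.subgroupOf A)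
    (by rw [H2.card_subgroupOf_of_le hBA, hB.2]) hmk
  refine ⟨C.map A.subtype, (H2.le_map_subtype_iff hBA).2 hBC, map_subtype_le _,
    elemAb_of_le (map_subtype_le _) h.1, ?_⟩
  rw [card_map_inj A.subtype_injective, hC]

theorem exists_le [Finite G] (hp : p.Prime) {k : ℕ} (h : IsElem p n A) (hkn : k ≤ n) :
    ∃ C : Subgroup G, C ≤ A ∧ IsElem p k C := by
  obtain ⟨C, -, h1, h2⟩ := h.exists_between hp (isElem_zero_bot p) bot_le (Nat.zero_le k) hkn
  exact ⟨C, h1, h2⟩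

theorem sup {m : ℕ} (h : IsElem p n A) (hB : IsElem p m B) (hc : B ≤ 𝐂(A)) (hd : A ⊓ B = ⊥) :
    IsElem p (n + m) (A ⊔ B) :=
  ⟨elemAb_sup h.1 hB.1 hc, by rw [DProd.card ⟨rfl, hc, hd⟩, h.2, hB.2, pow_add]⟩

/-- Two distinct subgroups of order `p` of `E_{p²}` generate it. -/
theorem sup_eq_of_two [Finite G] (hp : p.Prime) (h : IsElem p 2 A) {X Y : Subgroup G} (hX : X ≤ A)
    (hY : Y ≤ A) (hXc : 𝐨(X) = p) (hYc : 𝐨(Y) = p) (hne : X ≠ Y) : DProd X Y A := by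
  have hd : X ⊓ Y = ⊥ := (inf_eq_bot_or_le_of_card_prime (hXc ▸ hp) Y).resolve_right fun hle =>
    hne (H1.eq_of_le_of_card_le hle (by rw [hXc, hYc]))
  have hc : Y ≤ 𝐂(X) := hY.trans (h.le_cent.trans (cent_anti hX))
  exact ⟨h.eq_of_le (((isElem_one_iff hp).2 hXc).sup ((isElem_one_iff hp).2 hYc) hc hd)
    (sup_le hX hY), hc, hd⟩

/-- A proper nontrivial subgroup of `E_{p²}` has order `p`. -/
theorem card_eq_of_two [Finite G] (hp : p.Prime) (h : IsElem p 2 A) {X : Subgroup G} (hX : X ≤ A)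
    (h1 : X ≠ ⊥) (h2 : X ≠ A) : 𝐨(X) = p := by
  obtain ⟨m, hm⟩ := elemAb_exists_isElem hp (elemAb_of_le hX h.1)
  have := h.le_of_le hp hm hX
  interval_cases m
  · exact absurd (card_eq_one.1 (by simpa using hm.2)) h1
  · simpa using hm.2
  · exact absurd (h.eq_of_le hm hX) h2

end IsElem

theorem exists_compl_of_elemAb [Finite G] (hp : p.Prime) (h : IsElementaryAbelian p A)
    (hB : B ≤ A) : ∃ C, DProd B C A := by
  obtain ⟨C, h1, h2, h3⟩ := H1.exists_complement_of_isElementaryAbelian hp h hB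
  exact ⟨C, h3, h1.trans ((isMulComm_iff_le_cent.1 h.1).trans (cent_anti hB)), h2⟩

/-! ### `Ω₁` -/

theorem omegaOne_le (p : ℕ) (H : Subgroup G) : omegaOne p H ≤ H :=
  (closure_le _).2 fun _ hx => hx.1

theorem mem_omegaOne {x : G} (hx : x ∈ H) (h : x ^ p = 1) : x ∈ omegaOne p H :=
  subset_closure ⟨hx, h⟩

theorem omegaOne_le_iff : omegaOne p H ≤ K ↔ ∀ x ∈ H, x ^ p = 1 → x ∈ K :=
  (closure_le _).trans ⟨fun h _ hx h1 => h ⟨hx, h1⟩, fun h x hx => h x hx.1 hx.2⟩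

theorem omegaOne_mono (h : H ≤ K) : omegaOne p H ≤ omegaOne p K :=
  omegaOne_le_iff.2 fun _ hx h1 => mem_omegaOne (h hx) h1

theorem omegaOne_normal (p : ℕ) (H : Subgroup G) : omegaOne p H ⊲ H :=
  ⟨omegaOne_le p H, le_normalizer.trans (norm_le_norm_omegaOne H p)⟩

theorem le_omegaOne_of_exp (hA : A ≤ H) (h : ∀ a ∈ A, a ^ p = 1) : A ≤ omegaOne p H :=
  fun a ha => mem_omegaOne (hA ha) (h a ha)

theorem le_omegaOne_of_elemAb (hA : A ≤ H) (h : IsElementaryAbelian p A) : A ≤ omegaOne p H :=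
  le_omegaOne_of_exp hA h.2

theorem omegaOne_eq_self (h : ∀ a ∈ A, a ^ p = 1) : omegaOne p A = A :=
  le_antisymm (omegaOne_le p A) (le_omegaOne_of_exp le_rfl h)

theorem omegaOne_omegaOne (p : ℕ) (H : Subgroup G) : omegaOne p (omegaOne p H) = omegaOne p H :=
  le_antisymm (omegaOne_le _ _) (omegaOne_le_iff.2 fun _ hx h => mem_omegaOne (mem_omegaOne hx h) h)

theorem elemAb_omegaOne (h : IsMulCommutative A) : IsElementaryAbelian p (omegaOne p A) := by
  refine ⟨isMulComm_of_le (omegaOne_le p A) h, fun x hx => ?_⟩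
  have : x ∈ L.powKerIn A p := omegaOne_le_iff.2 (fun y hy h1 => L.mem_powKerIn.2 ⟨hy, h1⟩) hx
  exact (L.mem_powKerIn.1 this).2

theorem mem_omegaOne_iff_of_comm (h : IsMulCommutative A) {x : G} :
    x ∈ omegaOne p A ↔ x ∈ A ∧ x ^ p = 1 :=
  ⟨fun hx => ⟨omegaOne_le p A hx, (elemAb_omegaOne h).2 x hx⟩, fun hx => mem_omegaOne hx.1 hx.2⟩

theorem omegaOne_ne_bot [Finite G] (hp : p.Prime) (h : p ∣ 𝐨(H)) : omegaOne p H ≠ ⊥ := by
  obtain ⟨X, hX, hc⟩ := exists_le_card_eq_prime hp h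
  exact fun e => ne_bot_of_card_prime (hc ▸ hp) (eq_bot_iff.2
    ((le_omegaOne_of_elemAb hX (elemAb_of_card_prime hp hc)).trans e.le))

theorem card_omegaOne_of_isCyclic [Finite G] (hp : p.Prime) (hc : IsCyclic H) (h : p ∣ 𝐨(H)) :
    𝐨(omegaOne p H) = p := by
  obtain ⟨n, hn⟩ := elemAb_exists_isElem hp (elemAb_omegaOne (p := p) (isMulComm_of_isCyclic hc))
  have h2 : ¬ 2 ≤ n := fun h2 => hn.not_isCyclic hp h2 (isCyclic_of_le (omegaOne_le p H) hc)
  have h0 : n ≠ 0 := by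
    rintro rfl; exact omegaOne_ne_bot hp h (card_eq_one.1 (by simpa using hn.2))
  obtain rfl : n = 1 := by omega
  simpa using hn.2

/-- The unique subgroup of order `p` of a cyclic group. -/
theorem eq_omegaOne_of_isCyclic [Finite G] (hp : p.Prime) (hc : IsCyclic H) {X : Subgroup G}
    (hX : X ≤ H) (h : 𝐨(X) = p) : X = omegaOne p H :=
  H1.eq_of_le_of_card_le (le_omegaOne_of_elemAb hX (elemAb_of_card_prime hp h))
    (by rw [h, card_omegaOne_of_isCyclic hp hc (h ▸ card_dvd_of_le hX)])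

theorem eq_of_card_prime_of_isCyclic [Finite G] (hp : p.Prime) (hc : IsCyclic H)
    {X Y : Subgroup G} (hX : X ≤ H) (hY : Y ≤ H) (h : 𝐨(X) = p) (h' : 𝐨(Y) = p) : X = Y :=
  (eq_omegaOne_of_isCyclic hp hc hX h).trans (eq_omegaOne_of_isCyclic hp hc hY h').symm

theorem isPGroup_omegaOne (h : IsPGroup p H) : IsPGroup p (omegaOne p H) := h.to_le (omegaOne_le p H)

/-! ### Ranks -/

variable [Finite G]

theorem IsElem.le_card (hp : p.Prime) (h : IsElem p n A) (hA : A ≤ H) : n ≤ 𝐨(H) :=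
  ((Nat.lt_pow_self hp.one_lt).le.trans h.2.ge).trans (Nat.le_of_dvd Nat.card_pos (card_dvd_of_le hA))

theorem le_pRank (hp : p.Prime) (hA : A ≤ H) (h : IsElem p n A) : n ≤ pRank p H :=
  le_csSup ⟨𝐨(H), fun _ ⟨_, h1, h2⟩ => h2.le_card hp h1⟩ ⟨A, hA, h⟩

theorem exists_isElem_pRank (hp : p.Prime) (H : Subgroup G) :
    ∃ A : Subgroup G, A ≤ H ∧ IsElem p (pRank p H) A :=
  Nat.sSup_mem (s := {n | ∃ A : Subgroup G, A ≤ H ∧ IsElem p n A})
    ⟨0, ⊥, bot_le, isElem_zero_bot p⟩ ⟨𝐨(H), fun _ ⟨_, h1, h2⟩ => h2.le_card hp h1⟩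

theorem le_pRank_iff (hp : p.Prime) : n ≤ pRank p H ↔ ∃ A : Subgroup G, A ≤ H ∧ IsElem p n A := by
  refine ⟨fun h => ?_, fun ⟨A, h1, h2⟩ => le_pRank hp h1 h2⟩
  obtain ⟨A, h1, h2⟩ := exists_isElem_pRank hp H
  obtain ⟨C, h3, h4⟩ := h2.exists_le hp h
  exact ⟨C, h3.trans h1, h4⟩

theorem pRank_le_iff (hp : p.Prime) :
    pRank p H ≤ n ↔ ∀ A : Subgroup G, A ≤ H → IsElementaryAbelian p A → 𝐨(A) ≤ p ^ n := by
  constructor
  · intro h A hA he
    obtain ⟨m, hm⟩ := elemAb_exists_isElem hp he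
    rw [hm.2]; exact Nat.pow_le_pow_right hp.pos ((le_pRank hp hA hm).trans h)
  · intro h
    obtain ⟨A, h1, h2⟩ := exists_isElem_pRank hp H
    have := h A h1 h2.1
    rwa [h2.2, Nat.pow_le_pow_iff_right hp.one_lt] at this

theorem pRank_mono (hp : p.Prime) (h : H ≤ K) : pRank p H ≤ pRank p K := by
  obtain ⟨A, h1, h2⟩ := exists_isElem_pRank hp H; exact le_pRank hp (h1.trans h) h2

theorem IsElem.pRank_eq (hp : p.Prime) (h : IsElem p n A) : pRank p A = n := by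
  obtain ⟨B, h1, h2⟩ := exists_isElem_pRank hp A
  exact le_antisymm (h.le_of_le hp h2 h1) (le_pRank hp le_rfl h)

theorem isElem_pRank_of_elemAb (hp : p.Prime) (h : IsElementaryAbelian p A) :
    IsElem p (pRank p A) A := by
  obtain ⟨n, hn⟩ := elemAb_exists_isElem hp h; rwa [hn.pRank_eq hp]

theorem pRank_pos_iff (hp : p.Prime) : 0 < pRank p H ↔ p ∣ 𝐨(H) := by
  rw [Nat.lt_iff_add_one_le, le_pRank_iff hp]
  refine ⟨fun ⟨A, h1, h2⟩ => (h2.prime_dvd (by simp)).trans (card_dvd_of_le h1), fun h => ?_⟩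
  obtain ⟨X, h1, h2⟩ := exists_le_card_eq_prime hp h
  exact ⟨X, h1, (isElem_one_iff hp).2 h2⟩

theorem pRank_eq_zero_iff (hp : p.Prime) : pRank p H = 0 ↔ ¬ p ∣ 𝐨(H) := by
  rw [← pRank_pos_iff hp]; omega

theorem pow_pRank_dvd (hp : p.Prime) (H : Subgroup G) : p ^ pRank p H ∣ 𝐨(H) := by
  obtain ⟨A, h1, h2⟩ := exists_isElem_pRank hp H; exact h2.2 ▸ card_dvd_of_le h1

theorem pRank_omegaOne (hp : p.Prime) (H : Subgroup G) : pRank p (omegaOne p H) = pRank p H := by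
  obtain ⟨A, h1, h2⟩ := exists_isElem_pRank hp H
  exact le_antisymm (pRank_mono hp (omegaOne_le p H))
    (le_pRank hp (le_omegaOne_of_elemAb h1 h2.1) h2)

theorem isElem_omegaOne_of_comm (hp : p.Prime) (h : IsMulCommutative A) :
    IsElem p (pRank p A) (omegaOne p A) := by
  rw [← pRank_omegaOne hp]; exact isElem_pRank_of_elemAb hp (elemAb_omegaOne h)

theorem pRank_map {G' : Type u} [Group G'] [Finite G'] {f : G →* G'} (hf : Function.Injective f)
    (hp : p.Prime) (H : Subgroup G) : pRank p (H.map f) = pRank p H := by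
  apply le_antisymm
  · obtain ⟨A, h1, h2⟩ := exists_isElem_pRank hp (H.map f)
    obtain ⟨L, hL, rfl⟩ := exists_eq_map_of_le_map h1
    exact le_pRank hp hL ((isElem_map_iff hf).1 h2)
  · obtain ⟨A, h1, h2⟩ := exists_isElem_pRank hp H
    exact le_pRank hp (map_mono h1) ((isElem_map_iff hf).2 h2)

theorem pRank_conj (hp : p.Prime) (H : Subgroup G) (g : G) : pRank p (H ^ᵍ g) = pRank p H :=
  pRank_map (conj_injective g) hp H

theorem IsSyl.pRank_eq (hp : p.Prime) (h : IsSyl p P H) : pRank p P = pRank p H := by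
  refine le_antisymm (pRank_mono hp h.le) ?_
  obtain ⟨A, h1, h2⟩ := exists_isElem_pRank hp H
  obtain ⟨g, -, hg⟩ := h.exists_conj_le hp h2.pgrp h1
  exact le_pRank hp hg (h2.conj g)

theorem pRank_eq_of_not_dvd_relIndex (hp : p.Prime) (hK : K ≤ H) (h : ¬ p ∣ K.relIndex H) :
    pRank p K = pRank p H := by
  obtain ⟨P, hP⟩ := exists_isSyl hp K
  rw [← hP.pRank_eq hp, (hP.trans hp hK h).pRank_eq hp]

theorem hall_pRank_eq (hp : p.Prime) {π : Set ℕ} (h : IsPiHallOf π K H) (hπ : p ∈ π) :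
    pRank p K = pRank p H := pRank_eq_of_not_dvd_relIndex hp h.1 (h.2.2 p hp hπ)

theorem pRank_pCoreOf_of_isNilpotent (hp : p.Prime) (h : Group.IsNilpotent H) :
    pRank p (pCoreOf p H) = pRank p H := (isSyl_pCoreOf_of_isNilpotent hp h).pRank_eq hp

theorem pRank_fittingOf (hp : p.Prime) (H : Subgroup G) :
    pRank p (fittingOf H) = pRank p (pCoreOf p H) := by
  rw [← pRank_pCoreOf_of_isNilpotent hp (H := fittingOf H) inferInstance, pCoreOf_fittingOf hp]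

theorem pRank_le_one_of_isCyclic (hp : p.Prime) (h : IsCyclic H) : pRank p H ≤ 1 := by
  by_contra hn
  obtain ⟨A, h1, h2⟩ := (le_pRank_iff (n := 2) hp).1 (show 2 ≤ pRank p H by omega)
  exact h2.not_isCyclic hp le_rfl (isCyclic_of_le h1 h)

theorem exists_normal_isElem_two (hp : p.Prime) (hp2 : p ≠ 2) (hP : IsPGroup p P)
    (h : ¬ IsCyclic P) : ∃ E : Subgroup G, E ⊲ P ∧ IsElem p 2 E := by
  haveI := Fact.mk hp
  obtain ⟨E, h1, h2, h3, h4⟩ := H3.exists_elementary_sq_le_of_odd hp2 hP h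
  exact ⟨E, ⟨h1, h2⟩, h3, h4⟩

theorem two_le_pRank_of_not_isCyclic (hp : p.Prime) (hp2 : p ≠ 2) (hP : IsPGroup p P)
    (h : ¬ IsCyclic P) : 2 ≤ pRank p P := by
  obtain ⟨E, h1, h2⟩ := exists_normal_isElem_two hp hp2 hP h; exact le_pRank hp h1.1 h2

theorem isCyclic_of_pRank_le_one (hp : p.Prime) (hp2 : p ≠ 2) (hP : IsPGroup p P)
    (h : pRank p P ≤ 1) : IsCyclic P := by
  by_contra hn; have := two_le_pRank_of_not_isCyclic hp hp2 hP hn; omega

theorem isCyclic_iff_pRank_le_one (hp : p.Prime) (hp2 : p ≠ 2) (hP : IsPGroup p P) :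
    IsCyclic P ↔ pRank p P ≤ 1 :=
  ⟨pRank_le_one_of_isCyclic hp, isCyclic_of_pRank_le_one hp hp2 hP⟩

theorem isCyclic_of_comm_of_pRank_le_one (hp : p.Prime) (hP : IsPGroup p P)
    (hc : IsMulCommutative P) (h : pRank p P ≤ 1) : IsCyclic P := by
  haveI := Fact.mk hp
  by_contra hn
  obtain ⟨E, h1, h2, h3⟩ := H3.exists_elementary_sq_le hP hc hn
  have := le_pRank hp h1 ⟨h2, h3⟩
  omega

/-- `r_p(H) ≤ r_p(K) + k` when `[H : K] ≤ p ^ k`. -/
theorem pRank_le_add_of_relIndex_le (hp : p.Prime) {k : ℕ} (h : K.relIndex H ≤ p ^ k) :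
    pRank p H ≤ pRank p K + k := by
  rw [pRank_le_iff hp]
  intro A hA he
  rw [← H1.card_inf_mul_relIndex K A, pow_add]
  refine Nat.mul_le_mul ((pRank_le_iff hp).1 le_rfl _ inf_le_left (elemAb_of_le inf_le_right he))
    (le_trans ?_ h)
  exact relIndex_le_of_le_right hA (L.relIndex_ne_zero _ _)

/-- `r_p(H) ≤ r_p(K) + k` when `K ⊲ H` and `p ^ (k + 1)` does not divide `[H : K]`. -/
theorem pRank_le_add_of_normal (hp : p.Prime) {k : ℕ} (hK : H ≤ 𝐍(K))
    (h : ¬ p ^ (k + 1) ∣ K.relIndex H) : pRank p H ≤ pRank p K + k := by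
  rw [pRank_le_iff hp]
  intro A hA he
  rw [← H1.card_inf_mul_relIndex K A, pow_add]
  refine Nat.mul_le_mul ((pRank_le_iff hp).1 le_rfl _ inf_le_left (elemAb_of_le inf_le_right he)) ?_
  obtain ⟨m, hm⟩ := elemAb_exists_isElem hp he
  obtain ⟨j, -, hj⟩ := (Nat.dvd_prime_pow hp).1 (hm.2 ▸ relIndex_dvd_card' K A)
  have hd : K.relIndex A ∣ K.relIndex H := by
    rw [← relIndex_sup_of_norm (hA.trans hK), ← relIndex_sup_of_norm hK]
    exact Dvd.intro _ (relIndex_mul_relIndex K (K ⊔ A) (K ⊔ H) le_sup_left (sup_le_sup_left hA K))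
  rw [hj] at hd ⊢
  refine Nat.pow_le_pow_right hp.pos ?_
  by_contra hlt
  exact h ((pow_dvd_pow p (by omega)).trans hd)

theorem DProd.pRank_eq (hp : p.Prime) (h : DProd A B K) : pRank p K = pRank p A + pRank p B := by
  apply le_antisymm
  · rw [pRank_le_iff hp]
    intro E hE he
    -- the projection of `E` on `B`
    have hB : IsElementaryAbelian p ((A ⊔ E) ⊓ B) := by
      refine ⟨isMulComm_iff_le_cent.2 ?_, ?_⟩
      · rintro x ⟨hx, hxB⟩ y ⟨hy, hyB⟩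
        obtain ⟨a, ha, e, he1, rfl⟩ := (mem_sup_of_norm (hE.trans h.normal_left.2)).1 hx
        obtain ⟨a', ha', e', he1', rfl⟩ := (mem_sup_of_norm (hE.trans h.normal_left.2)).1 hy
        have h1 : ⁅a' * e', a * e⁆ ∈ B := by
          rw [commutatorElement_def]
          exact mul_mem (mul_mem (mul_mem hyB hxB) (inv_mem hyB)) (inv_mem hxB)
        have h2 : ⁅a' * e', a * e⁆ ∈ A := by
          have : ⁅A ⊔ E, A ⊔ E⁆ ≤ A := der_sup_le le_normalizer (hE.trans h.normal_left.2)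
            (der_le A) (comm_le_left_iff.2 (hE.trans h.normal_left.2))
            ((isMulComm_iff_comm_eq_bot.1 he.1).le.trans bot_le)
          exact this (commutator_mem_commutator hy hx)
        exact commutatorElement_eq_one_iff_mul_comm.1 (mem_bot.1 (h.disj ▸ ⟨h2, h1⟩))
      · rintro x ⟨hx, hxB⟩
        obtain ⟨a, ha, e, he1, rfl⟩ := (mem_sup_of_norm (hE.trans h.normal_left.2)).1 hx
        have hc : Commute a⁻¹ (a * e) := h.commute (inv_mem ha) hxB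
        have h1 : (a * e) ^ p ∈ A := by
          have : a⁻¹ ^ p * (a * e) ^ p = 1 := by
            rw [← hc.mul_pow, inv_mul_cancel_left, he.2 e he1]
          rw [eq_inv_of_mul_eq_one_right this]
          exact inv_mem (pow_mem (inv_mem ha) p)
        exact mem_bot.1 (h.disj ▸ ⟨h1, pow_mem hxB p⟩)
    have hsd : SdProd A (B ⊓ (A ⊔ E)) (K ⊓ (A ⊔ E)) := h.sdProd.inf_of_le_left le_sup_left
    have h3 := hsd.relIndex_left
    rw [inf_eq_right.2 (sup_le h.le_left hE), relIndex_sup_of_norm (hE.trans h.normal_left.2),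
      inf_comm] at h3
    rw [← H1.card_inf_mul_relIndex A E, pow_add, h3]
    exact Nat.mul_le_mul ((pRank_le_iff hp).1 le_rfl _ inf_le_left (elemAb_of_le inf_le_right he))
      ((pRank_le_iff hp).1 le_rfl _ inf_le_right hB)
  · obtain ⟨X, h1, h2⟩ := exists_isElem_pRank hp A
    obtain ⟨Y, h3, h4⟩ := exists_isElem_pRank hp B
    exact le_pRank hp (sup_le (h1.trans h.le_left) (h3.trans h.le_right))
      (h2.sup h4 (h3.trans (h.cent.trans (cent_anti h1)))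
        (eq_bot_iff.2 ((inf_le_inf h1 h3).trans h.disj.le)))

theorem pRank_le_rank (hp : p.Prime) (H : Subgroup G) : pRank p H ≤ rank H :=
  le_csSup ⟨𝐨(H), fun _ ⟨_, hq, _, h1, h2⟩ => h2.le_card hq h1⟩ ⟨p, hp, exists_isElem_pRank hp H⟩

theorem exists_prime_rank_eq (H : Subgroup G) : ∃ p : ℕ, p.Prime ∧ rank H = pRank p H := by
  obtain ⟨p, hp, A, h1, h2⟩ := Nat.sSup_mem
    (s := {n | ∃ p : ℕ, p.Prime ∧ ∃ A : Subgroup G, A ≤ H ∧ IsElem p n A})
    ⟨0, 2, Nat.prime_two, ⊥, bot_le, isElem_zero_bot 2⟩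
    ⟨𝐨(H), fun _ ⟨_, hq, _, h1, h2⟩ => h2.le_card hq h1⟩
  exact ⟨p, hp, le_antisymm (le_pRank hp h1 h2) (pRank_le_rank hp H)⟩

theorem le_rank_iff : n ≤ rank H ↔ ∃ p : ℕ, p.Prime ∧ n ≤ pRank p H := by
  refine ⟨fun h => ?_, fun ⟨p, hp, h⟩ => h.trans (pRank_le_rank hp H)⟩
  obtain ⟨p, hp, e⟩ := exists_prime_rank_eq H; exact ⟨p, hp, e ▸ h⟩

theorem le_rank_iff' : n ≤ rank H ↔ ∃ p : ℕ, p.Prime ∧ ∃ A : Subgroup G, A ≤ H ∧ IsElem p n A := by
  rw [le_rank_iff]; exact exists_congr fun p => and_congr_right fun hp => le_pRank_iff hp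

theorem rank_le_iff : rank H ≤ n ↔ ∀ p : ℕ, p.Prime → pRank p H ≤ n := by
  refine ⟨fun h p hp => (pRank_le_rank hp H).trans h, fun h => ?_⟩
  obtain ⟨p, hp, e⟩ := exists_prime_rank_eq H; exact e ▸ h p hp

theorem rank_mono (h : H ≤ K) : rank H ≤ rank K :=
  rank_le_iff.2 fun _ hp => (pRank_mono hp h).trans (pRank_le_rank hp K)

theorem rank_map {G' : Type u} [Group G'] [Finite G'] {f : G →* G'} (hf : Function.Injective f)
    (H : Subgroup G) : rank (H.map f) = rank H :=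
  le_antisymm (rank_le_iff.2 fun _ hp => (pRank_map hf hp H).le.trans (pRank_le_rank hp H))
    (rank_le_iff.2 fun _ hp => (pRank_map hf hp H).ge.trans (pRank_le_rank hp _))

theorem rank_conj (H : Subgroup G) (g : G) : rank (H ^ᵍ g) = rank H := rank_map (conj_injective g) H

theorem rank_eq_pRank (hp : p.Prime) (hP : IsPGroup p P) : rank P = pRank p P := by
  refine le_antisymm (rank_le_iff.2 fun q hq => ?_) (pRank_le_rank hp P)
  by_cases hd : q ∣ 𝐨(P)
  · rw [eq_of_prime_dvd_card_of_isPGroup hp hq hP hd]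
  · rw [(pRank_eq_zero_iff hq).2 hd]; exact Nat.zero_le _

theorem rank_pos_iff : 0 < rank H ↔ H ≠ ⊥ := by
  rw [Nat.lt_iff_add_one_le, le_rank_iff]
  refine ⟨fun ⟨p, hp, h⟩ => ne_bot_of_prime_dvd hp ((pRank_pos_iff hp).1 h), fun h => ?_⟩
  obtain ⟨p, hp, hd⟩ := exists_prime_dvd_card h
  exact ⟨p, hp, (pRank_pos_iff hp).2 hd⟩

theorem rank_le_one_of_isCyclic (h : IsCyclic H) : rank H ≤ 1 :=
  rank_le_iff.2 fun _ hp => pRank_le_one_of_isCyclic hp h

theorem isZGroup_iff_rank_le_one (ho : Odd 𝐨(H)) : IsZGroup H ↔ rank H ≤ 1 := by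
  rw [isZGroup_iff_isSyl, rank_le_iff]
  refine forall_congr' fun p => forall_congr' fun hp => ⟨fun h => ?_, fun h P hP => ?_⟩
  · obtain ⟨P, hP⟩ := exists_isSyl hp H
    rw [← hP.pRank_eq hp]; exact pRank_le_one_of_isCyclic hp (h P hP)
  · by_cases hp2 : p = 2
    · subst hp2
      rw [(hP.eq_bot_iff hp).2 ho.not_two_dvd_nat]; infer_instance
    · exact isCyclic_of_pRank_le_one hp hp2 hP.pgrp ((hP.pRank_eq hp).le.trans h)

theorem isCyclic_of_rank_le_one (ho : Odd 𝐨(H)) (hn : Group.IsNilpotent H) (h : rank H ≤ 1) :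
    IsCyclic H := isCyclic_of_isNilpotent_of_isZGroup hn ((isZGroup_iff_rank_le_one ho).2 h)

theorem isCyclic_of_comm_of_rank_le_one (hc : IsMulCommutative H) (h : rank H ≤ 1) : IsCyclic H :=
  isCyclic_of_isNilpotent_of_isZGroup (isNilpotent_of_isMulComm hc)
    (isZGroup_iff_isSyl.2 fun _ hp _ hP => isCyclic_of_comm_of_pRank_le_one hp hP.pgrp
      (isMulComm_of_le hP.le hc) ((hP.pRank_eq hp).le.trans ((pRank_le_rank hp H).trans h)))

theorem two_le_rank_of_not_isCyclic (ho : Odd 𝐨(H)) (hn : Group.IsNilpotent H) (h : ¬ IsCyclic H) :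
    2 ≤ rank H := by
  by_contra h2; exact h (isCyclic_of_rank_le_one ho hn (by omega))

/-! ### Maximal elementary abelian subgroups -/

omit [Finite G] in
theorem isMaxElem_iff : IsMaxElem p A H ↔
    A ≤ H ∧ IsElementaryAbelian p A ∧ ∀ x ∈ H, x ∈ 𝐂(A) → x ^ p = 1 → x ∈ A := by
  refine and_congr_right fun hA => and_congr_right fun he => ⟨fun h x hx hc h1 => ?_, ?_⟩
  · rw [← h (A ⊔ zpowers x) (sup_le hA (zpowers_le.2 hx))
      (elemAb_sup he (elemAb_zpowers h1) (zpowers_le.2 hc)) le_sup_left]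
    exact mem_sup_right (mem_zpowers x)
  · intro h B hB hBe hAB
    exact le_antisymm (fun x hx => h x (hB hx)
      ((isMulComm_iff_le_cent.1 hBe.1).trans (cent_anti hAB) hx) (hBe.2 x hx)) hAB

omit [Finite G] in
theorem IsMaxElem.omegaOne_cent (h : IsMaxElem p A H) : omegaOne p (H ⊓ 𝐂(A)) = A :=
  le_antisymm (omegaOne_le_iff.2 fun x hx h1 => (isMaxElem_iff.1 h).2.2 x hx.1 hx.2 h1)
    (le_omegaOne_of_elemAb (le_inf h.1 (isMulComm_iff_le_cent.1 h.2.1.1)) h.2.1)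

omit [Finite G] in
theorem IsMaxElem.le_of_cent (h : IsMaxElem p A H) (hB : B ≤ H) (hc : B ≤ 𝐂(A))
    (he : ∀ x ∈ B, x ^ p = 1) : B ≤ A :=
  fun x hx => (isMaxElem_iff.1 h).2.2 x (hB hx) (hc hx) (he x hx)

omit [Finite G] in
theorem IsMaxElem.of_le (h : IsMaxElem p A H) (hA : A ≤ K) (hK : K ≤ H) : IsMaxElem p A K :=
  ⟨hA, h.2.1, fun B hB => h.2.2 B (hB.trans hK)⟩

theorem exists_isMaxElem_ge (hA : A ≤ H) (he : IsElementaryAbelian p A) :
    ∃ B, IsMaxElem p B H ∧ A ≤ B := by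
  obtain ⟨B, hAB, hB⟩ := (Set.toFinite {B : Subgroup G | B ≤ H ∧ IsElementaryAbelian p B}
    ).exists_le_maximal (a := A) ⟨hA, he⟩
  exact ⟨B, ⟨hB.1.1, hB.1.2, fun C h1 h2 h3 => le_antisymm (hB.2 ⟨h1, h2⟩ h3) h3⟩, hAB⟩

theorem isMaxElem_of_pRank_le (hp : p.Prime) (hA : A ≤ H) (he : IsElem p n A)
    (h : pRank p H ≤ n) : IsMaxElem p A H :=
  ⟨hA, he.1, fun B hB hBe hAB => (H1.eq_of_le_of_card_le hAB
    (he.2 ▸ (pRank_le_iff hp).1 h B hB hBe)).symm⟩

theorem IsMaxElem.pRank_cent (hp : p.Prime) (h : IsMaxElem p A H) :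
    pRank p (H ⊓ 𝐂(A)) = pRank p A := by
  rw [← pRank_omegaOne hp, h.omegaOne_cent]

omit [Finite G] in
theorem isMaxElem_map_iff {G' : Type u} [Group G'] {f : G →* G'} (hf : Function.Injective f) :
    IsMaxElem p (A.map f) (H.map f) ↔ IsMaxElem p A H := by
  unfold IsMaxElem
  rw [map_le_map_iff_of_injective hf, isElemAb_map_iff hf]
  refine and_congr_right fun _ => and_congr_right fun _ => ⟨fun h B h1 h2 h3 => ?_, ?_⟩
  · exact map_injective hf (h _ (map_mono h1) ((isElemAb_map_iff hf).2 h2) (map_mono h3))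
  · intro h B h1 h2 h3
    obtain ⟨L, hL, rfl⟩ := exists_eq_map_of_le_map h1
    rw [h L hL ((isElemAb_map_iff hf).1 h2) ((map_le_map_iff_of_injective hf).1 h3)]

omit [Finite G] in
theorem IsMaxElem.conj (h : IsMaxElem p A H) (g : G) : IsMaxElem p (A ^ᵍ g) (H ^ᵍ g) :=
  (isMaxElem_map_iff (conj_injective g)).2 h

theorem narrow_map_iff {G' : Type u} [Group G'] [Finite G'] {f : G →* G'}
    (hf : Function.Injective f) (hp : p.Prime) : Narrow p (H.map f) ↔ Narrow p H := by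
  unfold Narrow
  rw [pRank_map hf hp]
  refine forall_congr' fun _ => ⟨fun ⟨A, h1, h2⟩ => ?_, fun ⟨A, h1, h2⟩ =>
    ⟨A.map f, (isElem_map_iff hf).2 h1, (isMaxElem_map_iff hf).2 h2⟩⟩
  obtain ⟨L, -, rfl⟩ := exists_eq_map_of_le_map h2.1
  exact ⟨L, (isElem_map_iff hf).1 h1, (isMaxElem_map_iff hf).1 h2⟩

theorem narrow_conj_iff (hp : p.Prime) {g : G} : Narrow p (H ^ᵍ g) ↔ Narrow p H :=
  narrow_map_iff (conj_injective g) hp

omit [Finite G] in
theorem narrow_of_pRank_le (h : pRank p H ≤ 2) : Narrow p H := fun h' => absurd h' (by omega)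

end Cfsg.Agent.FT
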