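/-
Odd order project, base library 5: sections, regular / prime / Frobenius actions, TI-sets.
-/
import Cfsg.Agent.FT.B.Rank
import Cfsg.Agent.H9.FrobQuot
import Cfsg.Agent.H9.FrobAction

set_option autoImplicit false

namespace Cfsg.Agent.FT

open Subgroup Cfsg Cfsg.Agent
open scoped commutatorElement Pointwise

universe u

variable {G : Type u} [Group G]

/-! ### Sections -/

section sec

variable {H K L M N U V Y : Subgroup G}

theorem mem_centMod {x : G} : x ∈ centMod U V ↔ x ∈ 𝐍(V) ∧ ∀ u ∈ U, ⁅u, x⁆ ∈ V := H1.mem_commStab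

theorem le_centMod_iff : K ≤ centMod U V ↔ K ≤ 𝐍(V) ∧ ⁅U, K⁆ ≤ V := H1.le_commStab_iff

theorem centMod_bot (U : Subgroup G) : centMod U ⊥ = 𝐂(U) := by
  refine eq_of_forall_le_iff fun K => ?_
  rw [le_centMod_iff, norm_bot, le_bot_iff, comm_eq_bot_iff, cent_comm]; simp

theorem norm_le_norm_centMod (hU : K ≤ 𝐍(U)) (hV : K ≤ 𝐍(V)) : K ≤ 𝐍(centMod U V) := by
  have key : ∀ g : G, g ∈ 𝐍(U) → g ∈ 𝐍(V) → centMod U V ^ᵍ g ≤ centMod U V := fun g h1 h2 => by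
    have := le_centMod_iff.1 (le_refl (centMod U V))
    rw [le_centMod_iff]
    refine ⟨?_, ?_⟩
    · have h3 := conj_le_norm_iff (g := g).2 this.1
      rwa [conj_eq_of_mem_norm h2] at h3
    · have h3 := conj_mono this.2 g
      rwa [conj_comm, conj_eq_of_mem_norm h1, conj_eq_of_mem_norm h2] at h3
  intro g hg
  rw [← conj_eq_self_iff]
  exact le_antisymm (key g (hU hg) (hV hg))
    (le_conj_iff.2 (key g⁻¹ (inv_mem (hU hg)) (inv_mem (hV hg))))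

theorem NilMod.mono (h : NilMod K M) (hL : L ≤ K) (hN : M ≤ N) : NilMod L N := by
  obtain ⟨n, hn⟩ := h
  refine ⟨n, le_trans ?_ (hn.trans hN)⟩
  clear hn
  induction n with
  | zero => exact hL
  | succ n ih => exact commutator_mono ih hL

theorem nilMod_bot_iff : NilMod K ⊥ ↔ Group.IsNilpotent K := by
  rw [isNilpotent_iff_lowerCentralSeries]; simp only [NilMod, le_bot_iff]

theorem nilMod_of_isNilpotent (h : Group.IsNilpotent K) (M : Subgroup G) : NilMod K M :=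
  (nilMod_bot_iff.2 h).mono le_rfl bot_le

theorem nilMod_of_le (h : K ≤ M) : NilMod K M := ⟨0, h⟩

theorem nilMod_of_der_le (h : ⁅K, K⁆ ≤ M) : NilMod K M := ⟨1, h⟩

theorem NilMod.inf (h : NilMod K M) : NilMod K (M ⊓ K) := by
  obtain ⟨n, hn⟩ := h
  exact ⟨n, le_inf hn (K.lowerCentralSeries_antitone (Nat.zero_le n))⟩

theorem NilMod.isNilpotent_of_disj (h : NilMod K M) (hd : M ⊓ K = ⊥) : Group.IsNilpotent K :=
  nilMod_bot_iff.1 (hd ▸ h.inf)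

theorem NilMod.map {G' : Type*} [Group G'] (h : NilMod K M) (f : G →* G') :
    NilMod (K.map f) (M.map f) := by
  obtain ⟨n, hn⟩ := h
  exact ⟨n, by rw [← map_lowerCentralSeries]; exact map_mono hn⟩

theorem bar_lowerCentralSeries [(N.subgroupOf Y).Normal] (hK : K ≤ Y) (n : ℕ) :
    H1.bar Y N (K.lowerCentralSeries n) = (H1.bar Y N K).lowerCentralSeries n := by
  induction n with
  | zero => rfl
  | succ n ih =>
    rw [Subgroup.lowerCentralSeries_succ, Subgroup.lowerCentralSeries_succ, ← ih, H1.bar_commutator _ hK]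
    exact (K.lowerCentralSeries_antitone (Nat.zero_le n)).trans hK

theorem nilMod_iff_bar [(N.subgroupOf Y).Normal] (hK : K ≤ Y) :
    NilMod K N ↔ Group.IsNilpotent (H1.bar Y N K) := by
  rw [isNilpotent_iff_lowerCentralSeries]
  refine exists_congr fun n => ?_
  rw [← bar_lowerCentralSeries hK, H1.bar_eq_bot_iff]
  exact (K.lowerCentralSeries_antitone (Nat.zero_le n)).trans hK

theorem CycMod.mono (h : CycMod K M) (hN : M ≤ N) : CycMod K N := by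
  obtain ⟨x, hx, h⟩ := h; exact ⟨x, hx, h.trans (sup_le_sup_left hN _)⟩

theorem cycMod_bot_iff : CycMod K ⊥ ↔ IsCyclic K := by
  rw [isCyclic_iff_zpowers]
  refine ⟨fun ⟨x, hx, h⟩ => ⟨x, le_antisymm (zpowers_le.2 hx) (by simpa using h)⟩, ?_⟩
  rintro ⟨x, rfl⟩; exact ⟨x, mem_zpowers x, le_sup_left⟩

theorem cycMod_of_isCyclic (h : IsCyclic K) (M : Subgroup G) : CycMod K M :=
  (cycMod_bot_iff.2 h).mono bot_le

theorem cycMod_iff_bar [(N.subgroupOf Y).Normal] (hN : N ≤ Y) (hK : K ≤ Y) :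
    CycMod K N ↔ IsCyclic (H1.bar Y N K) := by
  rw [isCyclic_iff_zpowers]
  constructor
  · rintro ⟨x, hx, h⟩
    refine ⟨H1.qmk Y N ⟨x, hK hx⟩, ?_⟩
    rw [← H1.bar_zpowers]
    exact le_antisymm (H1.bar_mono (zpowers_le.2 hx))
      ((H1.bar_le_bar_iff hN hK (zpowers_le.2 (hK hx))).2 h)
  · rintro ⟨z, hz⟩
    obtain ⟨y, hy, rfl⟩ := H1.mem_bar.1 (hz ▸ mem_zpowers z)
    rw [← H1.bar_zpowers] at hz
    exact ⟨y, hy, (H1.bar_le_bar_iff hN hK (zpowers_le.2 y.2)).1 hz.ge⟩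

theorem CycMod.der_le (h : CycMod K M) (hn : K ≤ 𝐍(M)) (hM : M ≤ K) : ⁅K, K⁆ ≤ M := by
  obtain ⟨x, hx, h⟩ := h
  refine (commutator_mono h h).trans (der_sup_le ((zpowers_le.2 hx).trans hn) le_normalizer ?_
    (comm_le_right_iff.2 ((zpowers_le.2 hx).trans hn)) (FT.der_le M))
  rw [isMulComm_iff_comm_eq_bot.1 inferInstance]; exact bot_le

/-- If `K / Z` is cyclic with `Z` central then `K` is abelian. -/
theorem CycMod.isMulComm (h : CycMod K M) (hM : M ≤ 𝐂(K)) (hMK : M ≤ K) : IsMulCommutative K := by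
  obtain ⟨x, hx, h⟩ := h
  refine isMulComm_of_le h (isMulComm_sup inferInstance ?_ (hM.trans (cent_anti (zpowers_le.2 hx))))
  exact isMulComm_iff_le_cent.2 (hM.trans (cent_anti hMK))

theorem SdProd.cycMod_iff (h : SdProd K H M) : CycMod M K ↔ IsCyclic H := by
  constructor
  · rintro ⟨x, hx, hle⟩
    obtain ⟨y, hy, k, hk, rfl⟩ := h.mem_iff'.1 hx
    refine isCyclic_iff_zpowers.2 ⟨y, le_antisymm (zpowers_le.2 hy) ?_⟩
    have h1 : M ≤ K ⊔ zpowers y := hle.trans (sup_le (zpowers_le.2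
      (mul_mem (mem_sup_right (mem_zpowers y)) (mem_sup_left hk))) le_sup_left)
    have h2 := sup_inf_of_le_right ((zpowers_le.2 hy).trans h.norm) (zpowers_le.2 hy)
    rw [h.disj, bot_sup_eq] at h2
    rw [← h2]; exact le_inf (h.le_right.trans h1) le_rfl
  · intro hc
    obtain ⟨y, rfl⟩ := isCyclic_iff_zpowers.1 hc
    exact ⟨y, h.le_right (mem_zpowers y), by rw [sup_comm, h.sup]⟩

theorem exists_chief_below [Finite G] (hU : U ⊲ H) {W : Subgroup G} (hW : H ≤ 𝐍(W)) (h : W < U) :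
    ∃ V, W ≤ V ∧ ChiefFactor H V U := by
  obtain ⟨V, hWV, hV⟩ := (Set.toFinite {V : Subgroup G | V < U ∧ H ≤ 𝐍(V)}
    ).exists_le_maximal (a := W) ⟨h, hW⟩
  refine ⟨V, hWV, hV.1.1, hU.1, hV.1.2, hU.2, fun X h1 h2 h3 => ?_⟩
  rcases h2.lt_or_eq with h4 | h4
  · exact Or.inl (le_antisymm (hV.2 ⟨h4, h3⟩ h1) h1)
  · exact Or.inr h4

theorem exists_chief_above [Finite G] (hV : H ≤ 𝐍(V)) {W : Subgroup G} (hW : W ⊲ H) (h : V < W) :
    ∃ U, U ≤ W ∧ ChiefFactor H V U := by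
  obtain ⟨U, hUW, hU⟩ := (Set.toFinite {U : Subgroup G | V < U ∧ H ≤ 𝐍(U)}
    ).exists_le_minimal (a := W) ⟨h, hW.2⟩
  refine ⟨U, hUW, hU.1.1, hUW.trans hW.1, hV, hU.1.2, fun X h1 h2 h3 => ?_⟩
  rcases h1.lt_or_eq with h4 | h4
  · exact Or.inr (le_antisymm h2 (hU.2 ⟨h4, h3⟩ h2))
  · exact Or.inl h4.symm

/-- Minimal `A`-invariant subgroups. -/
theorem exists_minimal_invariant [Finite G] {A : Subgroup G} (hV : A ≤ 𝐍(V)) (h : V ≠ ⊥) :
    ∃ U : Subgroup G, U ≤ V ∧ U ≠ ⊥ ∧ A ≤ 𝐍(U) ∧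
      ∀ W : Subgroup G, W ≤ U → A ≤ 𝐍(W) → W = ⊥ ∨ W = U := by
  obtain ⟨U, hUV, hU⟩ := (Set.toFinite {U : Subgroup G | U ≠ ⊥ ∧ A ≤ 𝐍(U)}
    ).exists_le_minimal (a := V) ⟨h, hV⟩
  refine ⟨U, hUV, hU.1.1, hU.1.2, fun W h1 h2 => ?_⟩
  by_cases hW : W = ⊥
  · exact Or.inl hW
  · exact Or.inr (le_antisymm h1 (hU.2 ⟨hW, h2⟩ h1))

theorem center2_le (R : Subgroup G) : center2 R ≤ R := map_subtype_le _

theorem mem_center2 {R : Subgroup G} {x : G} :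
    x ∈ center2 R ↔ x ∈ R ∧ ∀ r ∈ R, ⁅x, r⁆ ∈ 𝐂(R) := by
  unfold center2
  constructor
  · rintro ⟨y, hy, rfl⟩
    refine ⟨y.2, fun r hr => ?_⟩
    have := Subgroup.mem_upperCentralSeries_succ_iff.1 hy ⟨r, hr⟩
    rw [Subgroup.upperCentralSeries_one] at this
    exact ((map_subtype_center R).le (mem_map_of_mem R.subtype this)).2
  · rintro ⟨hx, h⟩
    refine ⟨⟨x, hx⟩, Subgroup.mem_upperCentralSeries_succ_iff.2 fun r => ?_, rfl⟩
    rw [Subgroup.upperCentralSeries_one, mem_center_iff]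
    exact fun g => Subtype.ext (h r r.2 g g.2)

theorem le_center2_iff {R : Subgroup G} : K ≤ center2 R ↔ K ≤ R ∧ ⁅K, R⁆ ≤ 𝐂(R) := by
  rw [commutator_le]
  exact ⟨fun h => ⟨h.trans (center2_le R), fun x hx => (mem_center2.1 (h hx)).2⟩,
    fun h x hx => mem_center2.2 ⟨h.1 hx, h.2 x hx⟩⟩

theorem center_le_center2 (R : Subgroup G) : 𝐙(R) ≤ center2 R :=
  le_center2_iff.2 ⟨inf_le_left, (comm_eq_bot_iff.2 inf_le_right).le.trans bot_le⟩

theorem norm_le_norm_center2 (R : Subgroup G) : 𝐍(R) ≤ 𝐍(center2 R) :=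
  H2.normalizer_le_normalizer_map_subtype _

theorem frattini_le (R : Subgroup G) : 𝚽(R) ≤ R := map_subtype_le _

theorem norm_le_norm_frattini (R : Subgroup G) : 𝐍(R) ≤ 𝐍(𝚽(R)) :=
  H1.le_normalizer_frattiniOf le_rfl

end sec

/-! ### Regular and prime actions -/

section reg

variable {K R L H M : Subgroup G}

theorem semiReg_iff : SemiReg K R ↔ ∀ x ∈ R, x ≠ 1 → ∀ k ∈ K, x * k = k * x → k = 1 :=
  forall₃_congr fun _ _ _ => ⟨fun h k hk e => mem_bot.1 (h ▸ ⟨hk, mem_cent1.2 e⟩),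
    fun h => eq_bot_iff.2 fun k hk => mem_bot.2 (h k hk.1 (mem_cent1.1 hk.2))⟩

theorem SemiReg.symm (h : SemiReg K R) : SemiReg R K := by
  rw [semiReg_iff] at *
  intro k hk h1 x hx e
  by_contra hx1
  exact h1 (h x hx hx1 k hk e.symm)

theorem SemiReg.mono (h : SemiReg K R) (hL : L ≤ K) (hH : H ≤ R) : SemiReg L H :=
  fun x hx h1 => eq_bot_iff.2 ((inf_le_inf_right _ hL).trans (h x (hH hx) h1).le)

theorem SemiReg.cent_eq_bot (h : SemiReg K R) (hH : H ≤ R) (h1 : H ≠ ⊥) : K ⊓ 𝐂(H) = ⊥ := by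
  obtain ⟨⟨x, hx⟩, hx1⟩ := ne_bot_iff_exists_ne_one.1 h1
  exact eq_bot_iff.2 ((inf_le_inf_left K (cent_le_cent1 hx)).trans
    (h x (hH hx) fun e => hx1 (Subtype.ext e)).le)

theorem SemiReg.disj (h : SemiReg K R) : K ⊓ R = ⊥ :=
  eq_bot_iff.2 fun x hx => mem_bot.2 (by
    by_contra h1; exact h1 (semiReg_iff.1 h x hx.2 h1 x hx.1 rfl))

theorem SemiReg.semiPrime (h : SemiReg K R) : SemiPrime K R := fun x hx h1 => by
  rw [h x hx h1, eq_comm, eq_bot_iff, ← h x hx h1]; exact inf_le_inf_left K (cent_le_cent1 hx)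

theorem semiReg_of_prime [Finite G] (h : ∀ X : Subgroup G, X ≤ R → 𝐨(X).Prime → K ⊓ 𝐂(X) = ⊥) :
    SemiReg K R := fun x hx h1 => by
  obtain ⟨X, hX, hp⟩ := exists_le_card_prime (zpowers_ne_bot.2 h1)
  rw [eq_bot_iff, ← h X (hX.trans (zpowers_le.2 hx)) hp, ← cent_zpowers]
  exact inf_le_inf_left K (cent_anti hX)

theorem semiReg_of_card_prime (hR : 𝐨(R).Prime) (h : K ⊓ 𝐂(R) = ⊥) : SemiReg K R :=
  fun x hx h1 => by rwa [cent1_eq_of_card_prime hR hx h1]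

theorem semiPrime_of_card_prime (hR : 𝐨(R).Prime) (K : Subgroup G) : SemiPrime K R :=
  fun x hx h1 => by rw [cent1_eq_of_card_prime hR hx h1]

theorem SemiPrime.cent_eq (h : SemiPrime K R) (hH : H ≤ R) (h1 : H ≠ ⊥) : K ⊓ 𝐂(H) = K ⊓ 𝐂(R) := by
  obtain ⟨⟨x, hx⟩, hx1⟩ := ne_bot_iff_exists_ne_one.1 h1
  refine le_antisymm ?_ (inf_le_inf_left K (cent_anti hH))
  rw [← h x (hH hx) fun e => hx1 (Subtype.ext e)]
  exact inf_le_inf_left K (cent_le_cent1 hx)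

theorem SemiPrime.mono (h : SemiPrime K R) (hL : L ≤ K) (hH : H ≤ R) : SemiPrime L H := by
  intro x hx h1
  have hH1 : H ≠ ⊥ := fun e => h1 (mem_bot.1 (e ▸ hx))
  rw [← inf_eq_left.2 hL, inf_assoc, inf_assoc, h x (hH hx) h1, h.cent_eq hH hH1]

theorem semiPrime_of_prime [Finite G]
    (h : ∀ X : Subgroup G, X ≤ R → 𝐨(X).Prime → K ⊓ 𝐂(X) ≤ 𝐂(R)) : SemiPrime K R :=
  fun x hx h1 => by
    obtain ⟨X, hX, hp⟩ := exists_le_card_prime (zpowers_ne_bot.2 h1)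
    refine le_antisymm (le_inf inf_le_left (le_trans ?_ (h X (hX.trans (zpowers_le.2 hx)) hp)))
      (inf_le_inf_left K (cent_le_cent1 hx))
    rw [← cent_zpowers]; exact inf_le_inf_left K (cent_anti hX)

theorem SemiPrime.semiReg (h : SemiPrime K R) (h0 : K ⊓ 𝐂(R) = ⊥) : SemiReg K R :=
  fun x hx h1 => by rw [h x hx h1, h0]

theorem SemiReg.map {G' : Type u} [Group G'] {f : G →* G'} (hf : Function.Injective f)
    (h : SemiReg K R) : SemiReg (K.map f) (R.map f) := by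
  rintro _ ⟨x, hx, rfl⟩ h1
  rw [← map_inf_cent1 hf, h x hx (fun e => h1 (by rw [e, map_one])), Subgroup.map_bot]

theorem SemiPrime.map {G' : Type u} [Group G'] {f : G →* G'} (hf : Function.Injective f)
    (h : SemiPrime K R) : SemiPrime (K.map f) (R.map f) := by
  rintro _ ⟨x, hx, rfl⟩ h1
  rw [← map_inf_cent1 hf, h x hx (fun e => h1 (by rw [e, map_one])), map_inf_cent hf]

theorem SemiReg.conj (h : SemiReg K R) (g : G) : SemiReg (K ^ᵍ g) (R ^ᵍ g) :=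
  h.map (conj_injective g)

theorem SemiPrime.conj (h : SemiPrime K R) (g : G) : SemiPrime (K ^ᵍ g) (R ^ᵍ g) :=
  h.map (conj_injective g)

theorem Frob.map {G' : Type u} [Group G'] {f : G →* G'} (hf : Function.Injective f)
    (h : Frob K R) : Frob (K.map f) (R.map f) :=
  ⟨fun e => h.ne_botK ((map_eq_bot_iff_of_injective _ hf).1 e),
    fun e => h.ne_botR ((map_eq_bot_iff_of_injective _ hf).1 e),
    (map_le_norm_iff hf).2 h.norm, h.reg.map hf⟩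

theorem Frob.conj (h : Frob K R) (g : G) : Frob (K ^ᵍ g) (R ^ᵍ g) := h.map (conj_injective g)

theorem Frob.sdProd (h : Frob K R) : SdProd K R (K ⊔ R) := ⟨rfl, h.norm, h.reg.disj⟩

theorem Frob.mono (h : Frob K R) (hL : L ≤ K) (hH : H ≤ R) (hL1 : L ≠ ⊥) (hH1 : H ≠ ⊥)
    (hn : H ≤ 𝐍(L)) : Frob L H := ⟨hL1, hH1, hn, h.reg.mono hL hH⟩

theorem Frob.cent_eq_bot (h : Frob K R) : K ⊓ 𝐂(R) = ⊥ := h.reg.cent_eq_bot le_rfl h.ne_botR

variable [Finite G]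

/-- For a regular action `|R|` divides `|K| - 1`. -/
theorem SemiReg.card_dvd (h : SemiReg K R) (hn : R ≤ 𝐍(K)) : 𝐨(R) ∣ 𝐨(K) - 1 := by
  by_cases hK : K = ⊥
  · simp [hK]
  by_cases hR : R = ⊥
  · simp [hR]
  obtain ⟨h1, h2⟩ := H9.frob_sup_of_fpf hK hR hn (semiReg_iff.1 h)
  have := H9.frob_card_dvd_card_kernel_sub_one h1 h2
  rwa [H2.card_subgroupOf_of_le le_sup_right, H2.card_subgroupOf_of_le le_sup_left] at this

theorem SemiReg.coprime (h : SemiReg K R) (hn : R ≤ 𝐍(K)) : 𝐨(K).Coprime 𝐨(R) := by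
  refine Nat.Coprime.coprime_dvd_right (h.card_dvd hn) ?_
  have : 1 ≤ 𝐨(K) := Nat.card_pos
  rw [Nat.coprime_self_sub_right this]; simp

theorem Frob.card_dvd (h : Frob K R) : 𝐨(R) ∣ 𝐨(K) - 1 := h.reg.card_dvd h.norm

theorem Frob.coprime (h : Frob K R) : 𝐨(K).Coprime 𝐨(R) := h.reg.coprime h.norm

theorem Frob.card_lt (h : Frob K R) : 𝐨(R) < 𝐨(K) := by
  have h1 : 1 < 𝐨(K) := one_lt_card_iff_ne_bot _ |>.2 h.ne_botK
  have := Nat.le_of_dvd (by omega) h.card_dvd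
  omega

theorem Frob.isHallIn (h : Frob K R) : IsHallIn K (K ⊔ R) :=
  ⟨le_sup_left, h.sdProd.relIndex_left ▸ h.coprime⟩

/-- `[K, H] = K` for a regular action of `H ≠ 1`. -/
theorem SemiReg.comm_eq (h : SemiReg K R) (hH : H ≤ R) (h1 : H ≠ ⊥) (hn : H ≤ 𝐍(K)) :
    ⁅K, H⁆ = K := by
  obtain ⟨X, hX, hp⟩ := exists_le_card_prime h1
  have hs : Group.IsSolvable X := H1.isSolvable_of_isMulCommutative
    (isMulComm_of_isCyclic (isCyclic_of_card_prime hp))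
  have := H1.commutator_sup_centralizer (hX.trans hn)
    ((h.mono le_rfl (hX.trans hH)).coprime (hX.trans hn)).symm (Or.inl hs)
  rw [h.cent_eq_bot (hX.trans hH) (ne_bot_of_card_prime hp), sup_bot_eq] at this
  exact le_antisymm (comm_le_left_iff.2 hn) (this.ge.trans (commutator_mono le_rfl hX))

theorem Frob.comm_eq (h : Frob K R) : ⁅K, R⁆ = K := h.reg.comm_eq le_rfl h.ne_botR h.norm

theorem Frob.isFrobeniusComplement (h : Frob K R) :
    IsFrobeniusComplement (R.subgroupOf (K ⊔ R)) ∧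
      frobeniusKernel (R.subgroupOf (K ⊔ R)) = (K.subgroupOf (K ⊔ R) : Set ↥(K ⊔ R)) :=
  H9.frob_sup_of_fpf h.ne_botK h.ne_botR h.norm (semiReg_iff.1 h.reg)

theorem Frob.cent1_le (h : Frob K R) {x : G} (hx : x ∈ K) (h1 : x ≠ 1) : (K ⊔ R) ⊓ 𝐂[x] ≤ K := by
  rintro g ⟨hg, hc⟩
  have := H9.frob_centralizer_le_kernel h.isFrobeniusComplement.1 h.isFrobeniusComplement.2
    (k := ⟨x, mem_sup_left hx⟩) hx (fun e => h1 (congrArg Subtype.val e))
    (x := ⟨g, hg⟩) (mem_cent1.2 (Subtype.ext (mem_cent1.1 hc)))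
  exact this

theorem Frob.mem_of_conj_mem (h : Frob K R) {x g : G} (hx : x ∈ R) (h1 : x ≠ 1) (hg : g ∈ K ⊔ R)
    (hc : g * x * g⁻¹ ∈ R) : g ∈ R :=
  H9.frob_mem_of_conj_mem h.isFrobeniusComplement.1 (g := ⟨g, hg⟩) (h := ⟨x, mem_sup_right hx⟩) hx
    (fun e => h1 (congrArg Subtype.val e)) hc

theorem Frob.cent1_le_compl (h : Frob K R) {x : G} (hx : x ∈ R) (h1 : x ≠ 1) :
    (K ⊔ R) ⊓ 𝐂[x] ≤ R := fun g hg =>
  h.mem_of_conj_mem hx h1 hg.1 (by rwa [mem_cent1_iff_conj.1 hg.2])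

/-- Elements of a Frobenius group outside the kernel are conjugate into the complement. -/
theorem Frob.exists_conj_mem (h : Frob K R) {x : G} (hx : x ∈ K ⊔ R) (hxK : x ∉ K) :
    ∃ k ∈ K, k * x * k⁻¹ ∈ R := by
  have h1 : (⟨x, hx⟩ : ↥(K ⊔ R)) ∉ frobeniusKernel (R.subgroupOf (K ⊔ R)) := by
    rw [h.isFrobeniusComplement.2]; exact hxK
  obtain ⟨-, g, hg⟩ := H9.not_mem_frobeniusKernel.1 h1
  obtain ⟨r, hr, k, hk, e⟩ := h.sdProd.mem_iff'.1 g.2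
  refine ⟨k, hk, ?_⟩
  have h2 : (g : G) * x * (g : G)⁻¹ ∈ R := hg
  have : k * x * k⁻¹ = r⁻¹ * ((g : G) * x * (g : G)⁻¹) * r := by rw [← e]; group
  rw [this]; exact mul_mem (mul_mem (inv_mem hr) h2) hr

omit [Finite G] in
theorem frobKer_iff : FrobKer L K ↔
    K ≠ ⊥ ∧ K < L ∧ L ≤ 𝐍(K) ∧ ∀ x ∈ K, x ≠ 1 → L ⊓ 𝐂[x] ≤ K := by
  constructor
  · rintro ⟨h1, h2, h3, -, h5⟩
    exact ⟨h1.ne', h2, h3, fun x hx hx1 g hg => h5 x hx (by simpa using hx1) g hg.1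
      (mem_bot.2 (commutatorElement_eq_one_iff_mul_comm.2 (mem_cent1.1 hg.2).symm))⟩
  · rintro ⟨h1, h2, h3, h4⟩
    exact ⟨bot_lt_iff_ne_bot.2 h1, h2, h3, norm_bot.ge.trans' le_top, fun x hx hx1 g hg hc =>
      h4 x hx (by simpa using hx1)
        ⟨hg, mem_cent1.2 (commutatorElement_eq_one_iff_mul_comm.1 (mem_bot.1 hc)).symm⟩⟩

theorem Frob.frobKer (h : Frob K R) : FrobKer (K ⊔ R) K :=
  frobKer_iff.2 ⟨h.ne_botK, lt_of_le_of_ne le_sup_left fun e => h.ne_botR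
    (by rw [← h.reg.disj, inf_eq_right.2 (le_sup_right.trans e.ge)]), h.sdProd.le_norm,
    fun _ hx h1 => h.cent1_le hx h1⟩

omit [Finite G] in
theorem FrobKerMod.semiReg (h : FrobKer L K) (hR : R ≤ L) (hd : K ⊓ R = ⊥) : SemiReg K R :=
  SemiReg.symm fun x hx h1 => eq_bot_iff.2 fun g hg =>
    hd ▸ ⟨(frobKer_iff.1 h).2.2.2 x hx h1 ⟨hR hg.1, hg.2⟩, hg.1⟩

omit [Finite G] in
theorem FrobKerMod.frob (h : FrobKer L K) (hR : SdProd K R L) : Frob K R :=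
  ⟨h.ltN.ne', fun e => h.ltK.ne (by rw [← hR.sup, e, sup_bot_eq]), hR.norm,
    h.semiReg hR.le_right hR.disj⟩

theorem FrobKerMod.isHallIn (h : FrobKer L K) : IsHallIn K L := by
  haveI := H1.normal_subgroupOf_of_le h.normK
  have := H9.coprime_of_centralizer_le (K := K.subgroupOf L) fun k hk h1 g hg =>
    (frobKer_iff.1 h).2.2.2 k hk (fun e => h1 (Subtype.ext e))
      ⟨g.2, mem_cent1.2 (congrArg Subtype.val (mem_cent1.1 hg))⟩
  exact ⟨h.ltK.le, by rwa [H2.card_subgroupOf_of_le h.ltK.le] at this⟩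

theorem FrobKerMod.exists_frob (h : FrobKer L K) : ∃ R, Frob K R ∧ K ⊔ R = L := by
  obtain ⟨R, hR⟩ := exists_sdProd_of_hall h.isHallIn h.normK
  exact ⟨R, h.frob hR, hR.sup⟩

omit [Finite G] in
theorem frobKerMod_iff_bar {Y N : Subgroup G} [(N.subgroupOf Y).Normal] (hL : L ≤ Y) (hY : Y ≤ 𝐍(N))
    (hNK : N ≤ K) (hKL : K ≤ L) : FrobKerMod L K N ↔ FrobKer (H1.bar Y N L) (H1.bar Y N K) := by
  have hK : K ≤ Y := hKL.trans hL
  have hNY : N ≤ Y := hNK.trans hK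
  have e1 : ∀ y : Y, H1.qmk Y N y ∈ H1.bar Y N K ↔ (y : G) ∈ K := fun y => by
    rw [H1.qmk_mem_bar_iff hNY hK, sup_eq_left.2 hNK]
  constructor
  · rintro ⟨h1, h2, h3, h4, h5⟩
    refine ⟨bot_lt_iff_ne_bot.2 fun e => h1.not_ge ((H1.bar_eq_bot_iff hK).1 e),
      lt_of_le_of_ne (H1.bar_mono hKL) fun e => h2.ne ((H1.bar_inj hNK hK (hNK.trans hKL) hL).1 e),
      H1.bar_le_normalizer h3, norm_bot.ge.trans' le_top, ?_⟩
    intro z hz hz1 w hw hc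
    obtain ⟨x, hx, rfl⟩ := H1.mem_bar.1 hz
    obtain ⟨g, hg, rfl⟩ := H1.mem_bar.1 hw
    rw [mem_bot, H1.qmk_eq_one_iff] at hz1
    rw [mem_bot, ← map_commutatorElement, H1.qmk_eq_one_iff] at hc
    exact (e1 g).2 (h5 x hx hz1 g hg hc)
  · rintro ⟨h1, h2, h3, -, h5⟩
    refine ⟨lt_of_le_of_ne hNK fun e => h1.ne' ((H1.bar_eq_bot_iff hK).2 e.ge),
      lt_of_le_of_ne hKL fun e => h2.ne (by rw [e]), ?_, hL.trans hY, fun x hx hxN g hg hc => ?_⟩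
    · have := H1.le_normalizer_unbar hL h3
      rwa [H1.unbar_bar_of_le hNK hK] at this
    · refine (e1 ⟨g, hL hg⟩).1 (h5 (H1.qmk Y N ⟨x, hK hx⟩) (H1.qmk_mem_bar hx) ?_ _
        (H1.qmk_mem_bar hg) ?_)
      · rwa [mem_bot, H1.qmk_eq_one_iff]
      · rwa [mem_bot, ← map_commutatorElement, H1.qmk_eq_one_iff]

end reg

/-! ### `H^#`, class supports, TI-sets -/

section ti

variable {A B : Set G} {H K L X W₁ W₂ : Subgroup G} {x y g : G}

theorem mem_sharp : x ∈ sharp H ↔ x ∈ H ∧ x ≠ 1 := Iff.rfl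

theorem sharp_mono (h : H ≤ K) : sharp H ⊆ sharp K := fun _ hx => ⟨h hx.1, hx.2⟩

theorem sharp_subset (H : Subgroup G) : sharp H ⊆ H := fun _ hx => hx.1

theorem sharp_nonempty : (sharp H).Nonempty ↔ H ≠ ⊥ := by
  rw [Ne, eq_bot_iff_forall]; simp [Set.Nonempty, mem_sharp]

theorem conj_mem_sharp_conj : g * x * g⁻¹ ∈ sharp (H ^ᵍ g) ↔ x ∈ sharp H := by
  rw [mem_sharp, mem_sharp, conj_mem_conj_iff, Ne, H9.conj_eq_one_iff]

theorem ncard_sharp [Finite G] (H : Subgroup G) : (sharp H).ncard = 𝐨(H) - 1 := by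
  rw [show sharp H = (H : Set G) \ {1} from rfl, Set.ncard_diff_singleton_of_mem H.one_mem]
  rfl

theorem mem_classSupp : y ∈ classSupp A X ↔ ∃ a ∈ A, ∃ g ∈ X, y = g * a * g⁻¹ := Iff.rfl

theorem subset_classSupp (A : Set G) (X : Subgroup G) : A ⊆ classSupp A X :=
  fun a ha => ⟨a, ha, 1, one_mem X, by simp⟩

theorem classSupp_mono (h : A ⊆ B) (hX : X ≤ L) : classSupp A X ⊆ classSupp B L :=
  fun _ ⟨a, ha, g, hg, e⟩ => ⟨a, h ha, g, hX hg, e⟩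

theorem conj_mem_classSupp (hy : y ∈ classSupp A X) (hg : g ∈ X) : g * y * g⁻¹ ∈ classSupp A X := by
  obtain ⟨a, ha, h, hh, rfl⟩ := hy
  exact ⟨a, ha, g * h, mul_mem hg hh, by group⟩

theorem conj_mem_classSupp_iff (hg : g ∈ X) : g * y * g⁻¹ ∈ classSupp A X ↔ y ∈ classSupp A X :=
  ⟨fun h => by simpa [mul_assoc] using conj_mem_classSupp h (inv_mem hg),
    fun h => conj_mem_classSupp h hg⟩

theorem classSupp_subset (h : A ⊆ L) (hX : X ≤ 𝐍(L)) : classSupp A X ⊆ L := by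
  rintro _ ⟨a, ha, g, hg, rfl⟩; exact H1.conj_mem_of_le_normalizer hX hg (h ha)

theorem one_notMem_classSupp (h : (1 : G) ∉ A) : (1 : G) ∉ classSupp A X := by
  rintro ⟨a, ha, g, -, e⟩; exact h (H9.conj_eq_one_iff.1 e.symm ▸ ha)

theorem classSupp_classSupp (A : Set G) (hX : X ≤ L) : classSupp (classSupp A X) L = classSupp A L :=
  Set.Subset.antisymm (fun _ ⟨_, hb, _, hg, e⟩ =>
    e ▸ conj_mem_classSupp (classSupp_mono subset_rfl hX hb) hg)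
    (classSupp_mono (subset_classSupp A X) le_rfl)

theorem mem_hatSet : x ∈ hatSet W₁ W₂ ↔ x ∈ W₁ ⊔ W₂ ∧ x ∉ W₁ ∧ x ∉ W₂ := Iff.rfl

theorem hatSet_comm (W₁ W₂ : Subgroup G) : hatSet W₁ W₂ = hatSet W₂ W₁ := by
  ext x; rw [mem_hatSet, mem_hatSet, sup_comm, and_comm (a := x ∉ W₁)]

theorem DProd.mem_hatSet {W : Subgroup G} (h : DProd W₁ W₂ W) :
    x ∈ hatSet W₁ W₂ ↔ ∃ a ∈ W₁, a ≠ 1 ∧ ∃ b ∈ W₂, b ≠ 1 ∧ a * b = x := by
  rw [FT.mem_hatSet, h.sup, h.mem_iff]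
  constructor
  · rintro ⟨⟨a, ha, b, hb, rfl⟩, h1, h2⟩
    exact ⟨a, ha, fun e => h2 (by simpa [e] using hb), b, hb, fun e => h1 (by simpa [e] using ha),
      rfl⟩
  · rintro ⟨a, ha, ha1, b, hb, hb1, rfl⟩
    refine ⟨⟨a, ha, b, hb, rfl⟩, fun h1 => hb1 (mem_bot.1 (h.disj ▸ ⟨?_, hb⟩)),
      fun h2 => ha1 (mem_bot.1 (h.disj ▸ ⟨ha, ?_⟩))⟩
    · exact (mul_mem_cancel_left ha).1 h1
    · exact (mul_mem_cancel_right hb).1 h2

namespace NormedTI

theorem cent1_le (h : NormedTI A X L) {a : G} (ha : a ∈ A) : X ⊓ 𝐂[a] ≤ L :=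
  fun g hg => h.ti g hg.1 a ha (by rwa [mem_cent1_iff_conj.1 hg.2])

theorem conj_mem_iff (h : NormedTI A X L) {a : G} (ha : a ∈ A) (hg : g ∈ X) :
    g * a * g⁻¹ ∈ A ↔ g ∈ L := ⟨h.ti g hg a ha, fun hg => h.norm g hg a ha⟩

theorem ne_one (h : NormedTI A X L) {a : G} (ha : a ∈ A) : a ≠ 1 := fun e => h.one_notMem (e ▸ ha)

theorem mono (h : NormedTI A X L) (hB : B ⊆ A) (hne : B.Nonempty)
    (hn : ∀ g ∈ L, ∀ b ∈ B, g * b * g⁻¹ ∈ B) : NormedTI B X L :=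
  ⟨hne, fun h1 => h.one_notMem (hB h1), hB.trans h.subset, h.le, hn,
    fun g hg b hb hc => h.ti g hg b (hB hb) (hB hc)⟩

theorem of_le (h : NormedTI A X L) {Y : Subgroup G} (hL : L ≤ Y) (hY : Y ≤ X) : NormedTI A Y L :=
  ⟨h.nonempty, h.one_notMem, h.subset, hL, h.norm, fun g hg => h.ti g (hY hg)⟩

/-- A nontrivial subgroup whose nonidentity elements lie in `A` has its normalizer in `L`. -/
theorem norm_le (h : NormedTI A X L) (hK : K ≠ ⊥) (hKA : sharp K ⊆ A) : X ⊓ 𝐍(K) ≤ L := by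
  obtain ⟨a, ha⟩ := sharp_nonempty.2 hK
  intro g hg
  refine h.ti g hg.1 a (hKA ha) (hKA ?_)
  rw [← conj_eq_of_mem_norm hg.2]; exact conj_mem_sharp_conj.2 ha

end NormedTI

theorem normedTI_sharp_iff : NormedTI (sharp H) X L ↔
    H ≠ ⊥ ∧ H ⊲ L ∧ L ≤ X ∧ ∀ g ∈ X, H ⊓ H ^ᵍ g ≠ ⊥ → g ∈ L := by
  constructor
  · intro h
    have hle : H ≤ L := fun x hx => by
      by_cases h1 : x = 1
      · exact h1 ▸ one_mem L
      · exact h.subset ⟨hx, h1⟩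
    have hn : ∀ g ∈ L, H ^ᵍ g ≤ H := by
      rintro g hg _ ⟨x, hx, rfl⟩
      by_cases h1 : x = 1
      · simp [h1]
      · exact (h.norm g hg x ⟨hx, h1⟩).1
    refine ⟨sharp_nonempty.1 h.nonempty, ⟨hle, fun g hg => conj_eq_self_iff.1
      (le_antisymm (hn g hg) (le_conj_iff.2 (hn _ (inv_mem hg))))⟩, h.le, fun g hg hne => ?_⟩
    obtain ⟨_, ⟨h1, x, hx, rfl⟩, h2⟩ := sharp_nonempty.2 hne
    exact h.ti g hg x ⟨hx, fun e => h2 (by simp [e])⟩ ⟨h1, h2⟩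
  · rintro ⟨h1, h2, h3, h4⟩
    refine ⟨sharp_nonempty.2 h1, fun h => h.2 rfl, fun x hx => h2.1 hx.1, h3, fun g hg a ha => ?_,
      fun g hg a ha hc => h4 g hg (sharp_nonempty.1 ⟨_, ⟨hc.1, conj_mem_conj ha.1 g⟩, hc.2⟩)⟩
    rw [← conj_eq_of_mem_norm (h2.2 hg)]; exact conj_mem_sharp_conj.2 ha

/-- Counting the conjugates of a TI-set. -/
theorem NormedTI.ncard_classSupp [Finite G] (h : NormedTI A X L) :
    (classSupp A X).ncard * 𝐨(L) = A.ncard * 𝐨(X) := by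
  classical
  have := Fintype.ofFinite G
  -- count the pairs `(a, g) ∈ A × X` according to `g a g⁻¹`
  let S : Finset (G × G) := A.toFinset ×ˢ (X : Set G).toFinset
  let T : Finset G := (classSupp A X).toFinset
  have hmap : ∀ p ∈ S, p.2 * p.1 * p.2⁻¹ ∈ T := fun p hp => by
    simp only [S, T, Finset.mem_product, Set.mem_toFinset] at hp ⊢
    exact ⟨p.1, hp.1, p.2, hp.2, rfl⟩
  have h1 := Finset.card_eq_sum_card_fiberwise (f := fun p : G × G => p.2 * p.1 * p.2⁻¹) hmap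
  have h2 : ∀ y ∈ T, (S.filter fun p : G × G => p.2 * p.1 * p.2⁻¹ = y).card = 𝐨(L) := by
    intro y hy
    obtain ⟨a, ha, g, hg, rfl⟩ := Set.mem_toFinset.1 hy
    rw [show 𝐨(L) = (L : Set G).toFinset.card by
      rw [Set.toFinset_card, ← Nat.card_eq_fintype_card]; rfl]
    symm
    refine Finset.card_bij (fun l _ => (l⁻¹ * a * l, g * l)) ?_ ?_ ?_
    · intro l hl
      have hl : l ∈ L := Set.mem_toFinset.1 hl
      simp only [S, Finset.mem_filter, Finset.mem_product, Set.mem_toFinset]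
      refine ⟨⟨by simpa using h.norm l⁻¹ (inv_mem hl) a ha, mul_mem hg (h.le hl)⟩, by group⟩
    · intro l _ l' _ e
      exact mul_left_cancel (congrArg Prod.snd e)
    · rintro ⟨b, k⟩ hp
      simp only [S, Finset.mem_filter, Finset.mem_product, Set.mem_toFinset] at hp
      obtain ⟨⟨hb, hk⟩, e⟩ := hp
      have e' : (g⁻¹ * k) * b * (g⁻¹ * k)⁻¹ = a := by
        rw [mul_inv_rev, inv_inv, mul_assoc g⁻¹, mul_assoc g⁻¹, ← mul_assoc (k * b), e]; group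
      refine ⟨g⁻¹ * k, Set.mem_toFinset.2 (h.ti _ (mul_mem (inv_mem hg) hk) b hb (e' ▸ ha)), ?_⟩
      rw [← e']; ext <;> simp only <;> group
  rw [Finset.sum_congr rfl h2, Finset.sum_const, smul_eq_mul, Finset.card_product] at h1
  rw [Set.ncard_eq_toFinset_card', Set.ncard_eq_toFinset_card', ← h1]
  congr 1
  rw [Set.toFinset_card, ← Nat.card_eq_fintype_card]; rfl

end ti

end Cfsg.Agent.FT
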