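/-
Odd order project, base library 6: the minimal counterexample, conjugation invariance of the
BG invariants.
-/
import Cfsg.Agent.FT.B.Act

set_option autoImplicit false

namespace Cfsg.Agent.FT

open Subgroup Cfsg Cfsg.Agent
open scoped commutatorElement Pointwise

universe u

variable {G : Type u} [Group G]

/-! ### Maximal subgroups, uniqueness -/

section uniq

variable {H K L M X Y : Subgroup G} {g : G}

theorem mmax_exists [Finite G] (h : H ≠ ⊤) : ∃ M, IsCoatom M ∧ H ≤ M := H2.exists_coatom_ge h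

theorem mmax_eq_of_le (hM : IsCoatom M) (h : M ≤ H) (hH : H ≠ ⊤) : H = M :=
  (hM.le_iff_eq hH).1 h

theorem mmax_eq_of_le' (hM : IsCoatom M) (hL : IsCoatom L) (h : M ≤ L) : M = L :=
  (mmax_eq_of_le hM h hL.1).symm

theorem ne_top_of_le_mmax (hM : IsCoatom M) (h : H ≤ M) : H ≠ ⊤ := ne_top_of_le_ne_top hM.1 h

theorem UniqMax.max (h : UniqMax X M) : IsCoatom M := h.1
theorem UniqMax.le (h : UniqMax X M) : X ≤ M := h.2.1
theorem UniqMax.eq (h : UniqMax X M) (hL : IsCoatom L) (hX : X ≤ L) : L = M := h.2.2 L hL hX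
theorem UniqMax.inU (h : UniqMax X M) : InU X := ⟨M, h⟩

theorem UniqMax.le_of_ne_top [Finite G] (h : UniqMax X M) (hX : X ≤ H) (hH : H ≠ ⊤) : H ≤ M := by
  obtain ⟨L, hL, hHL⟩ := mmax_exists hH
  rwa [← h.eq hL (hX.trans hHL)]

theorem UniqMax.mono (h : UniqMax X M) (hXY : X ≤ Y) (hY : Y ≤ M) : UniqMax Y M :=
  ⟨h.1, hY, fun L hL hYL => h.eq hL (hXY.trans hYL)⟩

theorem UniqMax.mono' [Finite G] (h : UniqMax X M) (hXY : X ≤ Y) (hY : Y ≠ ⊤) : UniqMax Y M :=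
  h.mono hXY (h.le_of_ne_top hXY hY)

theorem InU.mono [Finite G] (h : InU X) (hXY : X ≤ Y) (hY : Y ≠ ⊤) : InU Y := by
  obtain ⟨M, hM⟩ := h; exact ⟨M, hM.mono' hXY hY⟩

theorem InU.uniqMax (h : InU X) (hM : IsCoatom M) (hX : X ≤ M) : UniqMax X M := by
  obtain ⟨L, hL⟩ := h; rwa [hL.eq hM hX]

theorem InU.eq (h : InU X) (hM : IsCoatom M) (hX : X ≤ M) (hL : IsCoatom L) (hX' : X ≤ L) :
    M = L := (h.uniqMax hL hX').eq hM hX

theorem InU.ne_top (h : InU X) : X ≠ ⊤ := by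
  obtain ⟨M, hM⟩ := h; exact ne_top_of_le_mmax hM.1 hM.le

theorem uniqMax_self (hM : IsCoatom M) : UniqMax M M :=
  ⟨hM, le_rfl, fun _ hL h => (mmax_eq_of_le' hM hL h).symm⟩

theorem uniqMax_of_forall [Finite G] (hM : IsCoatom M) (hX : X ≤ M)
    (h : ∀ L : Subgroup G, IsCoatom L → X ≤ L → L ≤ M) : UniqMax X M :=
  ⟨hM, hX, fun L hL hXL => mmax_eq_of_le' hL hM (h L hL hXL)⟩

theorem exists_mmax_ne_of_not_uniqMax (hM : IsCoatom M) (hX : X ≤ M) (h : ¬ UniqMax X M) :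
    ∃ L, IsCoatom L ∧ X ≤ L ∧ L ≠ M := by
  by_contra hn
  push Not at hn
  exact h ⟨hM, hX, hn⟩

theorem UniqMax.conj (h : UniqMax X M) (g : G) : UniqMax (X ^ᵍ g) (M ^ᵍ g) :=
  ⟨isCoatom_conj h.1 g, conj_mono h.le g, fun L hL hX => by
    rw [← h.eq (isCoatom_conj hL g⁻¹) (conj_le_iff.1 hX), conj_inv_conj]⟩

theorem InU.conj (h : InU X) (g : G) : InU (X ^ᵍ g) := by
  obtain ⟨M, hM⟩ := h; exact ⟨_, hM.conj g⟩

theorem UniqMax.norm_le_norm (h : UniqMax X M) : 𝐍(X) ≤ 𝐍(M) := fun g hg => by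
  rw [← conj_eq_self_iff]
  exact h.eq (isCoatom_conj h.1 g) (conj_eq_of_mem_norm hg ▸ conj_mono h.le g)

end uniq

/-! ### `И` -/

section normed

variable {H A Q R : Subgroup G} {π : Set ℕ} {g : G}

theorem NormedPi.conj (h : NormedPi H A π Q) (g : G) : NormedPi (H ^ᵍ g) (A ^ᵍ g) π (Q ^ᵍ g) :=
  ⟨conj_mono h.1 g, (isPiSubgroup_map_iff (conj_injective g)).2 h.2.1, conj_le_norm_iff.2 h.2.2⟩

theorem MaxNormedPi.conj (h : MaxNormedPi A π Q) (g : G) : MaxNormedPi (A ^ᵍ g) π (Q ^ᵍ g) := by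
  refine ⟨by simpa only [conj_top] using h.1.conj g, fun R hR hQ => ?_⟩
  have := h.2 (R ^ᵍ g⁻¹) (by simpa only [conj_top, conj_conj_inv] using hR.conj g⁻¹)
    (conj_le_iff.1 hQ)
  rw [← this, conj_inv_conj]

theorem MaxNormedPi.conj_of_mem_norm (h : MaxNormedPi A π Q) (hg : g ∈ 𝐍(A)) :
    MaxNormedPi A π (Q ^ᵍ g) := by simpa only [conj_eq_of_mem_norm hg] using h.conj g

theorem exists_maxNormedPi_ge [Finite G] (hQ : IsPiSubgroup π Q) (hA : A ≤ 𝐍(Q)) :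
    ∃ R, MaxNormedPi A π R ∧ Q ≤ R := by
  obtain ⟨R, hQR, hR⟩ := (Set.toFinite {R : Subgroup G | NormedPi ⊤ A π R}).exists_le_maximal
    (a := Q) ⟨le_top, hQ, hA⟩
  exact ⟨R, ⟨hR.1, fun S hS h => le_antisymm (hR.2 hS h) h⟩, hQR⟩

end normed

/-! ### The minimal counterexample -/

section minodd

variable [Finite G] [MinOdd G] {H K M X : Subgroup G} {x : G} {p : ℕ}

theorem odd_card (H : Subgroup G) : Odd 𝐨(H) :=
  Odd.of_dvd_nat (MinOdd.odd (G := G)) (card_subgroup_dvd_card H)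

theorem odd_orderOf (x : G) : Odd (orderOf x) := Nat.card_zpowers x ▸ odd_card (zpowers x)

theorem odd_relIndex (H K : Subgroup G) : Odd (H.relIndex K) :=
  Odd.of_dvd_nat (odd_card K) (relIndex_dvd_card' H K)

theorem odd_index (H : Subgroup G) : Odd H.index := relIndex_top_right H ▸ odd_relIndex H ⊤

theorem ne_two_of_dvd_card (h : p ∣ 𝐨(H)) : p ≠ 2 := by
  rintro rfl; exact (odd_card H).not_two_dvd_nat h

theorem ne_two_of_isPGroup (hp : p.Prime) (h : IsPGroup p H) (h1 : H ≠ ⊥) : p ≠ 2 :=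
  ne_two_of_dvd_card (prime_dvd_card_of_isPGroup hp h h1)

theorem ne_two_of_pRank_pos (hp : p.Prime) (h : 0 < pRank p H) : p ≠ 2 :=
  ne_two_of_dvd_card ((pRank_pos_iff hp).1 h)

theorem three_le_of_prime_dvd (hp : p.Prime) (h : p ∣ 𝐨(H)) : 3 ≤ p := by
  have := hp.two_le; have := ne_two_of_dvd_card h; omega

theorem three_le_card (h : H ≠ ⊥) : 3 ≤ 𝐨(H) := by
  obtain ⟨p, hp, hd⟩ := exists_prime_dvd_card h
  exact (three_le_of_prime_dvd hp hd).trans (Nat.le_of_dvd Nat.card_pos hd)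

omit [Finite G] in
theorem isSolvable_of_ne_top (h : H ≠ ⊤) : Group.IsSolvable H := MinOdd.proper_solv H h

omit [Finite G] in
theorem isSolvable_of_le_mmax (hM : IsCoatom M) (h : H ≤ M) : Group.IsSolvable H :=
  isSolvable_of_ne_top (ne_top_of_le_mmax hM h)

omit [Finite G] in
theorem mmax_isSolvable (hM : IsCoatom M) : Group.IsSolvable M := isSolvable_of_ne_top hM.1

omit [Finite G] in
theorem ne_top_of_isSolvable (h : Group.IsSolvable H) : H ≠ ⊤ := by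
  rintro rfl
  exact MinOdd.not_solv (G := G) (L.isSolvable_of_mulEquiv topEquiv)

omit [Finite G] in
theorem ne_top_of_isNilpotent (h : Group.IsNilpotent H) : H ≠ ⊤ :=
  ne_top_of_isSolvable (isSolvable_of_isNilpotent h)

theorem ne_top_of_isPGroup (hp : p.Prime) (h : IsPGroup p H) : H ≠ ⊤ :=
  ne_top_of_isNilpotent (isNilpotent_of_isPGroup hp h)

omit [Finite G] in
theorem ne_top_of_isMulComm (h : IsMulCommutative H) : H ≠ ⊤ :=
  ne_top_of_isNilpotent (isNilpotent_of_isMulComm h)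

omit [Finite G] in
theorem eq_bot_or_eq_top_of_top_le_norm (h : ⊤ ≤ 𝐍(H)) : H = ⊥ ∨ H = ⊤ :=
  (MinOdd.simple (G := G)).eq_bot_or_eq_top_of_normal H (normal_iff_top_le.2 h)

omit [Finite G] in
theorem norm_ne_top (h1 : H ≠ ⊥) (h2 : H ≠ ⊤) : 𝐍(H) ≠ ⊤ := fun e =>
  (eq_bot_or_eq_top_of_top_le_norm e.ge).elim h1 h2

omit [Finite G] in
theorem der_top : ⁅(⊤ : Subgroup G), (⊤ : Subgroup G)⁆ = ⊤ :=
  (eq_bot_or_eq_top_of_top_le_norm (der_normal ⊤).2).resolve_left fun e =>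
    ne_top_of_isMulComm (isMulComm_iff_comm_eq_bot.2 e) rfl

omit [Finite G] in
theorem cent_top : 𝐂((⊤ : Subgroup G)) = ⊥ :=
  (eq_bot_or_eq_top_of_top_le_norm (H1.le_normalizer_centralizer le_normalizer)).resolve_right
    fun e => ne_top_of_isMulComm (isMulComm_iff_le_cent.2 e.ge) rfl

omit [Finite G] in
theorem cent_ne_top (h1 : H ≠ ⊥) : 𝐂(H) ≠ ⊤ := fun e =>
  h1 (eq_bot_iff.2 ((cent_comm.1 e.ge).trans cent_top.le))

omit [Finite G] in
theorem cent1_ne_top (h1 : x ≠ 1) : 𝐂[x] ≠ ⊤ := by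
  rw [← cent_zpowers]; exact cent_ne_top (zpowers_ne_bot.2 h1)

theorem norm_ne_top_of_isPGroup (hp : p.Prime) (h : IsPGroup p H) (h1 : H ≠ ⊥) : 𝐍(H) ≠ ⊤ :=
  norm_ne_top h1 (ne_top_of_isPGroup hp h)

omit [Finite G] in
theorem norm_ne_top_of_le_mmax (hM : IsCoatom M) (h : H ≤ M) (h1 : H ≠ ⊥) : 𝐍(H) ≠ ⊤ :=
  norm_ne_top h1 (ne_top_of_le_mmax hM h)

theorem mmax_ne_bot (hM : IsCoatom M) : M ≠ ⊥ := by
  rintro rfl
  haveI := (MinOdd.simple (G := G)).toNontrivial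
  obtain ⟨X, -, hX⟩ := exists_le_card_prime (H := (⊤ : Subgroup G)) top_ne_bot
  exact ne_bot_of_card_prime hX (mmax_eq_of_le hM bot_le
    (ne_top_of_isMulComm (isMulComm_of_isCyclic (isCyclic_of_card_prime hX))))

omit [Finite G] in
/-- `N(H) = M` for a nontrivial proper subgroup normalized by the maximal subgroup `M`. -/
theorem mmax_norm_eq (hM : IsCoatom M) (h1 : H ≠ ⊥) (h2 : H ≠ ⊤) (hn : M ≤ 𝐍(H)) : 𝐍(H) = M :=
  mmax_eq_of_le hM hn (norm_ne_top h1 h2)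

omit [Finite G] in
theorem mmax_normal (hM : IsCoatom M) (h : H ⊲ M) (h1 : H ≠ ⊥) : 𝐍(H) = M :=
  mmax_norm_eq hM h1 (ne_top_of_le_mmax hM h.1) h.2

theorem norm_mmax (hM : IsCoatom M) : 𝐍(M) = M :=
  mmax_normal hM ⟨le_rfl, le_normalizer⟩ (mmax_ne_bot hM)

theorem mmax_conj_eq_iff (hM : IsCoatom M) {g : G} : M ^ᵍ g = M ↔ g ∈ M := by
  rw [conj_eq_self_iff, norm_mmax hM]

omit [Finite G] in
theorem cent_le_mmax_of_normal (hM : IsCoatom M) (h : H ⊲ M) (h1 : H ≠ ⊥) : 𝐂(H) ≤ M :=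
  (cent_le_norm H).trans (mmax_normal hM h h1).le

theorem UniqMax.norm_le (h : UniqMax X M) : 𝐍(X) ≤ M := h.norm_le_norm.trans (norm_mmax h.1).le

theorem UniqMax.cent_le (h : UniqMax X M) : 𝐂(X) ≤ M := (cent_le_norm X).trans h.norm_le

theorem UniqMax.mem_of_le_conj (h : UniqMax X M) {g : G} (hg : X ≤ M ^ᵍ g) : g ∈ M :=
  (mmax_conj_eq_iff h.1).1 (h.eq (isCoatom_conj h.1 g) hg)

theorem UniqMax.mem_of_conj_le (h : UniqMax X M) {g : G} (hg : X ^ᵍ g ≤ M) : g ∈ M :=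
  inv_mem_iff.1 (h.mem_of_le_conj (conj_le_iff.1 hg))

/-- If `C(X) ∈ 𝒰` then `N(X)` lies in the same maximal subgroup. -/
theorem UniqMax.norm_le_of_cent (h : UniqMax 𝐂(X) M) : 𝐍(X) ≤ M :=
  (H1.normalizer_le_normalizer_centralizer X).trans h.norm_le

theorem fittingOf_mmax_ne_bot (hM : IsCoatom M) : fittingOf M ≠ ⊥ := by
  haveI := mmax_isSolvable hM; exact H2.fittingOf_ne_bot (mmax_ne_bot hM)

theorem not_hasNPC_top (hp : p.Prime) (h : p ∣ Nat.card G) : ¬ HasNPC p (⊤ : Subgroup G) := by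
  intro hn
  rcases eq_bot_or_eq_top_of_top_le_norm (pPrimeCoreOf_normal p (⊤ : Subgroup G)).2 with e | e
  · obtain ⟨P, hP⟩ := exists_isSyl hp (⊤ : Subgroup G)
    have := (hn.sdProd hp hP).sup
    rw [e, bot_sup_eq] at this
    exact ne_top_of_isPGroup hp hP.pgrp this
  · exact not_dvd_card_pPrimeCoreOf hp ⊤ (by rwa [e, card_top])

end minodd

/-- The reduction of the odd order theorem to a minimal simple group. -/
theorem isSolvable_of_no_minOdd
    (h : ∀ (G : Type u) [Group G] [Finite G], MinOdd G → False)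
    (G : Type u) [Group G] [Finite G] : Odd (Nat.card G) → Group.IsSolvable G := by
  refine L.induction_on_card (P := fun G _ _ => Odd (Nat.card G) → Group.IsSolvable G) G ?_
  intro G _ _ ih ho
  by_contra hns
  have hsub : ∀ H : Subgroup G, H ≠ ⊤ → Group.IsSolvable H := fun H hH =>
    ih H (L.card_lt_of_ne_top hH) (ho.of_dvd_nat (card_subgroup_dvd_card H))
  haveI : Nontrivial G := by
    by_contra hn
    rw [not_nontrivial_iff_subsingleton] at hn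
    exact hns inferInstance
  refine h G ⟨ho, ⟨fun N hN => ?_⟩, hns, hsub⟩
  by_contra hne
  push Not at hne
  haveI := hsub N hne.2
  haveI := ih (G ⧸ N) (L.card_quotient_lt N hne.1)
    (ho.of_dvd_nat (card_quotient_dvd_card N))
  exact hns (solvable_of_ker_le_range N.subtype (QuotientGroup.mk' N) (by simp))

/-! ### Conjugation invariance of the BG invariants -/

section inv

variable [Finite G] (M : Subgroup G) (g : G)

theorem alp_conj : alp (M ^ᵍ g) = alp M := by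
  ext p; exact and_congr_right fun hp => by rw [pRank_conj hp]

theorem bet_conj : bet (M ^ᵍ g) = bet M := by unfold bet; rw [alp_conj]

omit [Finite G] in
theorem sig_conj : sig (M ^ᵍ g) = sig M := by
  have key : ∀ (M : Subgroup G) (g : G), sig M ⊆ sig (M ^ᵍ g) := by
    rintro M g p ⟨h1, h2, P, h3, h4⟩
    exact ⟨h1, by rwa [card_conj], P ^ᵍ g, h3.conj g, by rw [norm_conj]; exact conj_mono h4 g⟩
  exact Set.Subset.antisymm (by simpa only [conj_conj_inv] using key (M ^ᵍ g) g⁻¹) (key M g)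

theorem Ma_conj : Ma (M ^ᵍ g) = Ma M ^ᵍ g := by unfold Ma; rw [alp_conj, piCoreOf_conj]
theorem Mb_conj : Mb (M ^ᵍ g) = Mb M ^ᵍ g := by unfold Mb; rw [bet_conj, piCoreOf_conj]
theorem Ms_conj : Ms (M ^ᵍ g) = Ms M ^ᵍ g := by unfold Ms; rw [sig_conj, piCoreOf_conj]

theorem ta1_conj : ta1 (M ^ᵍ g) = ta1 M := by
  ext p; exact and_congr_right fun hp => by rw [sig_conj, pRank_conj hp, ← conj_comm, card_conj]
theorem ta2_conj : ta2 (M ^ᵍ g) = ta2 M := by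
  ext p; exact and_congr_right fun hp => by rw [sig_conj, pRank_conj hp]
theorem ta3_conj : ta3 (M ^ᵍ g) = ta3 M := by
  ext p; exact and_congr_right fun hp => by rw [sig_conj, pRank_conj hp, ← conj_comm, card_conj]

theorem kap_conj : kap (M ^ᵍ g) = kap M := by
  have key : ∀ (M : Subgroup G) (g : G), kap M ⊆ kap (M ^ᵍ g) := by
    rintro M g p ⟨h1, P, h2, h3, h4⟩
    refine ⟨by rwa [ta1_conj, ta3_conj], P ^ᵍ g, conj_mono h2 g, by rwa [card_conj], ?_⟩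
    rwa [Ms_conj, cent_conj, ← conj_inf, Ne, conj_eq_bot_iff]
  exact Set.Subset.antisymm (by simpa only [conj_conj_inv] using key (M ^ᵍ g) g⁻¹) (key M g)

omit [Finite G] in
theorem isPi_conj_iff {π : Set ℕ} : IsPiSubgroup π (M ^ᵍ g) ↔ IsPiSubgroup π M :=
  isPiSubgroup_map_iff (conj_injective g)

theorem isFtype_conj_iff : IsFtype (M ^ᵍ g) ↔ IsFtype M := by
  unfold IsFtype; rw [isCoatom_conj_iff, kap_conj]
theorem isPtype_conj_iff : IsPtype (M ^ᵍ g) ↔ IsPtype M := by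
  unfold IsPtype; rw [isCoatom_conj_iff, kap_conj]
theorem isP1type_conj_iff : IsP1type (M ^ᵍ g) ↔ IsP1type M := by
  unfold IsP1type; rw [isPtype_conj_iff, kap_conj, sig_conj, isPi_conj_iff]
theorem isP2type_conj_iff : IsP2type (M ^ᵍ g) ↔ IsP2type M := by
  unfold IsP2type; rw [isPtype_conj_iff, kap_conj, sig_conj, isPi_conj_iff]

theorem ftType_conj : ftType (M ^ᵍ g) = ftType M := by
  unfold ftType
  rw [kap_conj, sig_conj, isPi_conj_iff, MF_conj, Ms_conj, conj_inj, ← conj_comm, conj_le_conj_iff]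

theorem ftDer_conj : ftDer (M ^ᵍ g) = ftDer M ^ᵍ g := by
  unfold ftDer; rw [ftType_conj]; split_ifs
  · rfl
  · rw [conj_comm]

variable {M g}

theorem Conj.ftType_eq {L : Subgroup G} (h : Conj M L) : ftType L = ftType M := by
  obtain ⟨g, rfl⟩ := h; exact ftType_conj M g

theorem conj_mem_ftA1_conj {x : G} : g * x * g⁻¹ ∈ ftA1 (M ^ᵍ g) ↔ x ∈ ftA1 M := by
  unfold ftA1; rw [Ms_conj, conj_mem_sharp_conj]

theorem conj_mem_ftA_conj {x : G} : g * x * g⁻¹ ∈ ftA (M ^ᵍ g) ↔ x ∈ ftA M := by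
  have key : ∀ (M : Subgroup G) (g x : G), x ∈ ftA M → g * x * g⁻¹ ∈ ftA (M ^ᵍ g) := by
    rintro M g x ⟨h1, h2, y, h3, h4⟩
    refine ⟨by rw [ftDer_conj]; exact conj_mem_conj h1 g, by rwa [Ne, H9.conj_eq_one_iff],
      g * y * g⁻¹, conj_mem_ftA1_conj.2 h3, ?_⟩
    rw [cent1_conj]; exact conj_mem_conj h4 g
  refine ⟨fun h => ?_, key M g x⟩
  have := key _ g⁻¹ _ h
  rwa [conj_conj_inv, show g⁻¹ * (g * x * g⁻¹) * g⁻¹⁻¹ = x by group] at this

theorem conj_mem_ftA0_conj {x : G} : g * x * g⁻¹ ∈ ftA0 (M ^ᵍ g) ↔ x ∈ ftA0 M := by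
  unfold ftA0
  simp only [Set.mem_union, Set.mem_setOf_eq]
  rw [conj_mem_ftA_conj, conj_mem_conj_iff, ftDer_conj, piOf_conj, isPiElt_conj, isPiElt_conj]

theorem inMsig_conj_iff {x : G} : InMsig (g * x * g⁻¹) (M ^ᵍ g) ↔ InMsig x M := by
  unfold InMsig; rw [isCoatom_conj_iff, Ms_conj, conj_mem_conj_iff]

theorem SigElt.conj {x : G} (h : SigElt x) (g : G) : SigElt (g * x * g⁻¹) := by
  obtain ⟨h1, M, hM⟩ := h
  exact ⟨by rwa [Ne, H9.conj_eq_one_iff], M ^ᵍ g, inMsig_conj_iff.2 hM⟩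

theorem MultiSig.conj {x : G} (h : MultiSig x) (g : G) : MultiSig (g * x * g⁻¹) := by
  obtain ⟨M₁, M₂, h1, h2, h3⟩ := h
  exact ⟨M₁ ^ᵍ g, M₂ ^ᵍ g, inMsig_conj_iff.2 h1, inMsig_conj_iff.2 h2, by rwa [Ne, conj_inj]⟩

theorem SigmaCompl.conj {E E₁ E₂ E₃ : Subgroup G} (h : SigmaCompl M E E₁ E₂ E₃) (g : G) :
    SigmaCompl (M ^ᵍ g) (E ^ᵍ g) (E₁ ^ᵍ g) (E₂ ^ᵍ g) (E₃ ^ᵍ g) :=
  ⟨by rw [sig_conj]; exact hall_conj h.hall g, by rw [ta1_conj]; exact hall_conj h.hall1 g,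
    by rw [ta2_conj]; exact hall_conj h.hall2 g, by rw [ta3_conj]; exact hall_conj h.hall3 g,
    conj_le_norm_iff.2 h.norm⟩

theorem KappaCompl.conj {U K : Subgroup G} (h : KappaCompl M U K) (g : G) :
    KappaCompl (M ^ᵍ g) (U ^ᵍ g) (K ^ᵍ g) :=
  ⟨by rw [sig_conj, kap_conj]; exact hall_conj h.hallU g, by rw [kap_conj]; exact hall_conj h.hallK g,
    conj_le_norm_iff.2 h.norm⟩

end inv

/-! ### Trivial facts on the BG invariants -/

section triv

variable [Finite G] {M : Subgroup G} {p : ℕ}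

theorem Ma_normal (M : Subgroup G) : Ma M ⊲ M := piCoreOf_normal _ M
theorem Mb_normal (M : Subgroup G) : Mb M ⊲ M := piCoreOf_normal _ M
theorem Ms_normal (M : Subgroup G) : Ms M ⊲ M := piCoreOf_normal _ M
theorem Ma_le (M : Subgroup G) : Ma M ≤ M := (Ma_normal M).1
theorem Mb_le (M : Subgroup G) : Mb M ≤ M := (Mb_normal M).1
theorem Ms_le (M : Subgroup G) : Ms M ≤ M := (Ms_normal M).1
theorem isPi_Ma (M : Subgroup G) : IsPiSubgroup (alp M) (Ma M) := isPi_piCoreOf _ M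
theorem isPi_Mb (M : Subgroup G) : IsPiSubgroup (bet M) (Mb M) := isPi_piCoreOf _ M
theorem isPi_Ms (M : Subgroup G) : IsPiSubgroup (sig M) (Ms M) := isPi_piCoreOf _ M
theorem Mb_le_Ma (M : Subgroup G) : Mb M ≤ Ma M := piCoreOf_mono Set.inter_subset_left M

omit [Finite G] in
theorem bet_subset_alp (M : Subgroup G) : bet M ⊆ alp M := Set.inter_subset_left
omit [Finite G] in
theorem sig_subset_piOf (M : Subgroup G) : sig M ⊆ piOf M := fun _ h => ⟨h.1, h.2.1⟩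
theorem alp_subset_piOf (M : Subgroup G) : alp M ⊆ piOf M :=
  fun _ h => ⟨h.1, (pRank_pos_iff h.1).1 (lt_trans two_pos h.2)⟩
theorem ta1_subset_piOf (M : Subgroup G) : ta1 M ⊆ piOf M :=
  fun _ h => ⟨h.1, (pRank_pos_iff h.1).1 (by rw [h.2.2.1]; exact one_pos)⟩
theorem ta2_subset_piOf (M : Subgroup G) : ta2 M ⊆ piOf M :=
  fun _ h => ⟨h.1, (pRank_pos_iff h.1).1 (by rw [h.2.2]; exact two_pos)⟩
theorem ta3_subset_piOf (M : Subgroup G) : ta3 M ⊆ piOf M :=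
  fun _ h => ⟨h.1, (pRank_pos_iff h.1).1 (by rw [h.2.2.1]; exact one_pos)⟩
omit [Finite G] in
theorem ta1_subset_compl (M : Subgroup G) : ta1 M ⊆ (sig M)ᶜ := fun _ h => h.2.1
omit [Finite G] in
theorem ta2_subset_compl (M : Subgroup G) : ta2 M ⊆ (sig M)ᶜ := fun _ h => h.2.1
omit [Finite G] in
theorem ta3_subset_compl (M : Subgroup G) : ta3 M ⊆ (sig M)ᶜ := fun _ h => h.2.1
omit [Finite G] in
theorem kap_subset_ta13 (M : Subgroup G) : kap M ⊆ ta1 M ∪ ta3 M := fun _ h => h.1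
omit [Finite G] in
theorem kap_subset_compl (M : Subgroup G) : kap M ⊆ (sig M)ᶜ :=
  fun _ h => h.1.elim (fun h => h.2.1) fun h => h.2.1
omit [Finite G] in
theorem disjoint_ta1_ta2 (M : Subgroup G) : Disjoint (ta1 M) (ta2 M) :=
  Set.disjoint_left.2 fun _ h h' => by have := h.2.2.1; have := h'.2.2; omega
omit [Finite G] in
theorem disjoint_ta1_ta3 (M : Subgroup G) : Disjoint (ta1 M) (ta3 M) :=
  Set.disjoint_left.2 fun _ h h' => h.2.2.2 h'.2.2.2
omit [Finite G] in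
theorem disjoint_ta2_ta3 (M : Subgroup G) : Disjoint (ta2 M) (ta3 M) :=
  Set.disjoint_left.2 fun _ h h' => by have := h.2.2; have := h'.2.2.1; omega
omit [Finite G] in
theorem pRank_eq_one_of_ta13 (h : p ∈ ta1 M ∪ ta3 M) : pRank p M = 1 :=
  h.elim (fun h => h.2.2.1) fun h => h.2.2.1
omit [Finite G] in
theorem prime_of_ta13 (h : p ∈ ta1 M ∪ ta3 M) : p.Prime := h.elim (fun h => h.1) fun h => h.1
omit [Finite G] in
theorem mem_ta13_iff : p ∈ ta1 M ∪ ta3 M ↔ p.Prime ∧ p ∉ sig M ∧ pRank p M = 1 := by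
  refine ⟨fun h => h.elim (fun h => ⟨h.1, h.2.1, h.2.2.1⟩) fun h => ⟨h.1, h.2.1, h.2.2.1⟩,
    fun h => ?_⟩
  by_cases hd : p ∣ 𝐨(⁅M, M⁆)
  · exact Or.inr ⟨h.1, h.2.1, h.2.2, hd⟩
  · exact Or.inl ⟨h.1, h.2.1, h.2.2, hd⟩

omit [Finite G] in
theorem isFtype_or_isPtype (hM : IsCoatom M) : IsFtype M ∨ IsPtype M :=
  (kap M).eq_empty_or_nonempty.imp (fun h => ⟨hM, h⟩) fun h => ⟨hM, h⟩
omit [Finite G] in
theorem IsPtype.not_isFtype (h : IsPtype M) : ¬ IsFtype M := fun h' => h.2.ne_empty h'.2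
omit [Finite G] in
theorem IsPtype.p1_or_p2 (h : IsPtype M) : IsP1type M ∨ IsP2type M :=
  (em _).imp (fun h' => ⟨h, h'⟩) fun h' => ⟨h, h'⟩

omit [Finite G] in
theorem ftType_eq_one_iff : ftType M = 1 ↔ kap M = ∅ := by
  unfold ftType; split_ifs <;> simp_all
omit [Finite G] in
theorem ftType_eq_two_iff : ftType M = 2 ↔ kap M ≠ ∅ ∧ ¬ IsPiSubgroup (sig M ∪ kap M) M := by
  unfold ftType; split_ifs <;> simp_all
omit [Finite G] in
theorem ftType_range (M : Subgroup G) : 1 ≤ ftType M ∧ ftType M ≤ 5 := by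
  unfold ftType; split_ifs <;> simp

omit [Finite G] in
theorem ftDer_normal (M : Subgroup G) : ftDer M ⊲ M := by
  unfold ftDer; split_ifs
  · exact ⟨le_rfl, le_normalizer⟩
  · exact der_normal M

end triv

end Cfsg.Agent.FT
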