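/-
General lemmas on sections (`H1.bar`), reduction to chief factors and to Sylow subgroups.
-/
import Cfsg.Agent.FT.Base
import Cfsg.Agent.H9.FpfRed

set_option autoImplicit false

namespace Cfsg.Agent.FT

open Subgroup Cfsg Cfsg.Agent
open scoped commutatorElement

universe u

variable {G : Type u} [Group G]

section bar

variable {Y N : Subgroup G} [(N.subgroupOf Y).Normal]

theorem card_bar_of_disj {H : Subgroup G} (hH : H ≤ Y) (hd : N ⊓ H = ⊥) :
    𝐨(H1.bar Y N H) = 𝐨(H) := by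
  have h := H1.card_inf_mul_relIndex N H
  rwa [hd, card_bot, one_mul, ← H1.card_bar hH] at h

theorem card_bar_mul {H : Subgroup G} (hH : H ≤ Y) : 𝐨(N ⊓ H) * 𝐨(H1.bar Y N H) = 𝐨(H) := by
  rw [H1.card_bar hH, H1.card_inf_mul_relIndex]

theorem card_bar_le [Finite G] (H : Subgroup G) : 𝐨(H1.bar Y N H) ≤ 𝐨(H) :=
  Nat.le_of_dvd Nat.card_pos (H1.card_bar_dvd H)

theorem card_bar_lt [Finite G] {H : Subgroup G} (hH : H ≤ Y) (hd : N ⊓ H ≠ ⊥) :
    𝐨(H1.bar Y N H) < 𝐨(H) := by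
  rw [← card_bar_mul (N := N) hH]
  exact lt_mul_of_one_lt_left Nat.card_pos ((one_lt_card_iff_ne_bot _).mpr hd)

theorem pow_mem_of_bar {H : Subgroup G} (hH : H ≤ Y) {n : ℕ}
    (h : ∀ x ∈ H1.bar Y N H, x ^ n = 1) : ∀ x ∈ H, x ^ n ∈ N := fun x hx => by
  have h1 := h _ (H1.qmk_mem_bar (Y := Y) (N := N) (y := ⟨x, hH hx⟩) hx)
  rw [← map_pow, H1.qmk_eq_one_iff] at h1
  exact h1

theorem bar_pow_eq_one {H : Subgroup G} {n : ℕ} (h : ∀ x ∈ H, x ^ n ∈ N) :
    ∀ x ∈ H1.bar Y N H, x ^ n = 1 := fun x hx => by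
  obtain ⟨y, hy, rfl⟩ := H1.mem_bar.mp hx
  rw [← map_pow, H1.qmk_eq_one_iff]
  exact h y hy

theorem elemAb_bar_iff {U : Subgroup G} (hU : U ≤ Y) {l : ℕ} :
    IsElementaryAbelian l (H1.bar Y N U) ↔ ⁅U, U⁆ ≤ N ∧ ∀ x ∈ U, x ^ l ∈ N :=
  ⟨fun h => ⟨(H1.isMulCommutative_bar_iff hU).mp h.1, pow_mem_of_bar hU h.2⟩,
    fun h => ⟨(H1.isMulCommutative_bar_iff hU).mpr h.1, bar_pow_eq_one h.2⟩⟩

theorem isZGroup_map [Finite G] {G' : Type*} [Group G'] (f : G →* G') {H : Subgroup G}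
    (h : IsZGroup H) : IsZGroup (H.map f) :=
  IsZGroup.of_surjective (f := f.subgroupMap H) (f.subgroupMap_surjective H)

theorem isZGroup_bar [Finite G] {H : Subgroup G} (hH : H ≤ Y) (h : IsZGroup H) :
    IsZGroup (H1.bar Y N H) := by
  refine isZGroup_map _ ?_
  rw [← isZGroup_map_iff Y.subtype_injective, subgroupOf_map_subtype, inf_of_le_left hH]
  exact h

theorem isCyclic_bar {H : Subgroup G} (hH : H ≤ Y) (h : IsCyclic H) : IsCyclic (H1.bar Y N H) := by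
  obtain ⟨x, rfl⟩ := isCyclic_iff_zpowers.mp h
  rw [show x = ((⟨x, hH (mem_zpowers x)⟩ : Y) : G) from rfl, H1.bar_zpowers]
  infer_instance

theorem odd_card_bar {H : Subgroup G} (h : Odd 𝐨(H)) : Odd 𝐨(H1.bar Y N H) :=
  h.of_dvd_nat (H1.card_bar_dvd H)

theorem not_dvd_card_bar {H : Subgroup G} {l : ℕ} (h : ¬ l ∣ 𝐨(H)) : ¬ l ∣ 𝐨(H1.bar Y N H) :=
  fun h' => h (h'.trans (H1.card_bar_dvd H))

end bar

variable [Finite G]

/-- A group acting coprimely and centralizing all chief factors acts trivially. -/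
theorem le_cent_of_chief {H K D : Subgroup G} (hK : K ⊲ H) (hD : D ≤ H)
    (hc : 𝐨(D).Coprime 𝐨(K)) (h : ∀ V U, ChiefFactor H V U → U ≤ K → ⁅U, D⁆ ≤ V) :
    D ≤ 𝐂(K) := by
  have key : ∀ W : Subgroup G, W ≤ K → H ≤ 𝐍(W) → D ≤ 𝐂(W) := by
    intro W
    induction W using H1.subgroup_strong_induction with
    | h W ih =>
      intro hW hn
      rcases eq_or_ne W ⊥ with rfl | h0
      · rw [cent_bot]; exact le_top
      obtain ⟨V, -, hV⟩ := exists_chief_below (U := W) ⟨hW.trans hK.1, hn⟩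
        (norm_bot.ge.trans' le_top) (bot_lt_iff_ne_bot.mpr h0)
      exact H1.le_centralizer_of_commutator_le (hD.trans hn) (H1.coprime_of_le hc le_rfl hW)
        (h V W hV hW) (ih V hV.lt (hV.lt.le.trans hW) hV.normV)
  exact key K le_rfl hK.2

/-- Reduction of `[K, B] ≤ F(K)` to invariant Sylow subgroups. -/
theorem comm_le_fittingOf {K A B : Subgroup G} (hs : Group.IsSolvable K) (hA : A ≤ 𝐍(K))
    (hB : B ≤ A) (hc : 𝐨(A).Coprime 𝐨(K))
    (h : ∀ s t : ℕ, s.Prime → t.Prime → s ≠ t → ∀ Q : Subgroup G, Q ≤ K → IsPGroup s Q →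
      A ≤ 𝐍(Q) → ⁅Q, B⁆ ≤ 𝐂(pCoreOf t K)) : ⁅K, B⁆ ≤ fittingOf K := by
  set X := K ⊔ A with hX
  have hXK : X ≤ 𝐍(K) := sup_le le_normalizer hA
  have hKX : K ≤ X := le_sup_left
  have hAX : A ≤ X := le_sup_right
  have hf := X.subtype_injective
  have eK : (K.subgroupOf X).map X.subtype = K := map_subgroupOf_eq_of_le hKX
  have eA : (A.subgroupOf X).map X.subtype = A := map_subgroupOf_eq_of_le hAX
  have eB : (B.subgroupOf X).map X.subtype = B := map_subgroupOf_eq_of_le (hB.trans hAX)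
  have := H1.normal_subgroupOf_of_le hXK
  have key := H9.commutator_le_fitting (G := K.subgroupOf X) (H1.isSolvable_subgroupOf hs X)
    (A := A.subgroupOf X) (B := B.subgroupOf X) (subgroupOf_mono X hB)
    (by rwa [← card_map_inj hf, ← card_map_inj hf (K.subgroupOf X), eK, eA]) ?_
  · have h1 := map_mono (f := X.subtype) key
    rw [map_commutator, eK, eB] at h1
    refine le_trans (le_inf h1 (comm_le_left_iff.mpr (hB.trans hA))) ?_
    exact (fittingOf_of_normal ⟨hKX, hXK⟩).ge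
  · intro s t hs ht hst Q hQ hQs hAQ
    have h1 := h s t hs ht hst (Q.map X.subtype) (eK ▸ map_mono hQ) (hQs.map _)
      (eA ▸ (map_le_norm_iff hf).mpr hAQ)
    rw [← map_le_cent_iff hf, map_commutator, eB]
    refine h1.trans (cent_anti ?_)
    rw [map_inf_eq _ _ _ hf, eK]
    have h2 := piCoreOf_of_normal {t} (K := K) (H := X) ⟨hKX, hXK⟩
    rw [← pCoreOf_eq ht, ← pCoreOf_eq ht] at h2
    exact h2.ge

end Cfsg.Agent.FT
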