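/-
Cores of sections.
-/
import Cfsg.Agent.FT.B.helper1_Sec

set_option autoImplicit false

namespace Cfsg.Agent.FT

open Subgroup Cfsg Cfsg.Agent
open scoped commutatorElement

universe u

variable {G : Type u} [Group G]

section bar

variable {Y N : Subgroup G} [(N.subgroupOf Y).Normal] {π : Set ℕ} {p : ℕ}

theorem isPi_bar {H : Subgroup G} (h : IsPiSubgroup π H) : IsPiSubgroup π (H1.bar Y N H) :=
  fun q hq hd => h q hq (hd.trans (H1.card_bar_dvd H))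

theorem isPi_unbar (hNY : N ≤ Y) (hN : IsPiSubgroup π N) {K : Subgroup (Y ⧸ N.subgroupOf Y)}
    (hK : IsPiSubgroup π K) : IsPiSubgroup π (H1.unbar Y N K) := fun q hq hd => by
  rw [H1.card_unbar hNY] at hd
  exact ((Nat.Prime.dvd_mul hq).mp hd).elim (hN q hq) (hK q hq)

theorem unbar_le_of_le_bar {H : Subgroup G} (hN : N ≤ H) (hH : H ≤ Y)
    {K : Subgroup (Y ⧸ N.subgroupOf Y)} (h : K ≤ H1.bar Y N H) : H1.unbar Y N K ≤ H :=
  (H1.unbar_mono h).trans (H1.unbar_bar_of_le hN hH).le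

theorem unbar_normal {H : Subgroup G} (hN : N ≤ H) (hH : H ≤ Y)
    {K : Subgroup (Y ⧸ N.subgroupOf Y)} (h : K ⊲ H1.bar Y N H) : H1.unbar Y N K ⊲ H :=
  ⟨unbar_le_of_le_bar hN hH h.1, H1.le_normalizer_unbar hH h.2⟩

theorem bar_normal {K H : Subgroup G} (h : K ⊲ H) : H1.bar Y N K ⊲ H1.bar Y N H :=
  ⟨H1.bar_mono h.1, H1.bar_le_normalizer h.2⟩

theorem relIndex_unbar (K : Subgroup (Y ⧸ N.subgroupOf Y)) :
    N.relIndex (H1.unbar Y N K) = 𝐨(K) := by
  rw [← H1.card_bar (H1.unbar_le K), H1.bar_unbar]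

variable [Finite G]

theorem bar_piCoreOf_le (π : Set ℕ) (H : Subgroup G) :
    H1.bar Y N (piCoreOf π H) ≤ piCoreOf π (H1.bar Y N H) :=
  le_piCoreOf (bar_normal (piCoreOf_normal π H)) (isPi_bar (isPi_piCoreOf π H))

theorem piCoreOf_bar {H : Subgroup G} (hN : N ≤ H) (hH : H ≤ Y) (h : IsPiSubgroup π N) :
    piCoreOf π (H1.bar Y N H) = H1.bar Y N (piCoreOf π H) := by
  refine le_antisymm ?_ (bar_piCoreOf_le π H)
  rw [← H1.bar_unbar (piCoreOf π (H1.bar Y N H))]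
  exact H1.bar_mono (le_piCoreOf (unbar_normal hN hH (piCoreOf_normal _ _))
    (isPi_unbar (hN.trans hH) h (isPi_piCoreOf _ _)))

theorem pCoreOf_bar (hp : p.Prime) {H : Subgroup G} (hN : N ≤ H) (hH : H ≤ Y)
    (h : IsPGroup p N) : pCoreOf p (H1.bar Y N H) = H1.bar Y N (pCoreOf p H) := by
  rw [pCoreOf_eq hp, pCoreOf_eq hp, piCoreOf_bar hN hH ((isPi_singleton_iff hp).mpr h)]

theorem pPrimeCoreOf_bar (hp : p.Prime) {H : Subgroup G} (hN : N ≤ H) (hH : H ≤ Y)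
    (h : 𝐨(N).Coprime p) :
    H2.pPrimeCoreOf p (H1.bar Y N H) = H1.bar Y N (H2.pPrimeCoreOf p H) := by
  rw [pPrimeCoreOf_eq hp, pPrimeCoreOf_eq hp,
    piCoreOf_bar hN hH ((isPi_compl_singleton_iff hp).mpr h)]

theorem bar_fittingOf_le {H : Subgroup G} (hH : H ≤ Y) :
    H1.bar Y N (fittingOf H) ≤ fittingOf (H1.bar Y N H) :=
  le_fittingOf (bar_normal (fittingOf_normal H))
    (H1.isNilpotent_bar ((fittingOf_normal H).1.trans hH) inferInstance)

omit [Finite G] in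
theorem hall_bar {H M : Subgroup G} (hM : M ≤ Y) (h : IsPiHallOf π H M) :
    IsPiHallOf π (H1.bar Y N H) (H1.bar Y N M) := by
  refine H1.isPiHallOf_map ?_ _
  refine ⟨subgroupOf_mono Y h.1, fun q hq hd => h.2.1 q hq (hd.trans ?_), fun q hq hπ => ?_⟩
  · rw [← card_map_inj Y.subtype_injective, subgroupOf_map_subtype]
    exact card_dvd_of_le inf_le_left
  · rw [relIndex_subgroupOf hM]
    exact h.2.2 q hq hπ

theorem IsSyl.bar (hp : p.Prime) {P M : Subgroup G} (hM : M ≤ Y) (h : IsSyl p P M) :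
    IsSyl p (H1.bar Y N P) (H1.bar Y N M) :=
  (isSyl_iff_hall hp).mpr (hall_bar hM ((isSyl_iff_hall hp).mp h))

/-- A π-subgroup of a section is covered by any Hall π-subgroup of its preimage. -/
theorem bar_eq_of_hall_unbar {K : Subgroup (Y ⧸ N.subgroupOf Y)} (hK : IsPiSubgroup π K)
    {D : Subgroup G} (hD : IsPiHallOf π D (H1.unbar Y N K)) : H1.bar Y N D = K := by
  have h := hall_bar (N := N) (H1.unbar_le K) hD
  rw [H1.bar_unbar] at h
  exact (hall_eq_self_iff h).mpr hK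

end bar

variable [Finite G] {p : ℕ}

theorem fittingOf_eq_pCoreOf (hp : p.Prime) {H : Subgroup G} (h : H2.pPrimeCoreOf p H = ⊥) :
    fittingOf H = pCoreOf p H :=
  le_antisymm (by simpa [h] using H2.fittingOf_le_sup hp H) (H2.pCoreOf_le_fittingOf hp H)

theorem cent_fittingOf_le {H : Subgroup G} (hs : Group.IsSolvable H) :
    H ⊓ 𝐂(fittingOf H) ≤ fittingOf H := H2.inf_centralizer_fittingOf_le

theorem cent_pCoreOf_le (hp : p.Prime) {H : Subgroup G} (hs : Group.IsSolvable H)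
    (h : H2.pPrimeCoreOf p H = ⊥) : H ⊓ 𝐂(pCoreOf p H) ≤ pCoreOf p H := by
  rw [← fittingOf_eq_pCoreOf hp h]; exact cent_fittingOf_le hs

theorem not_dvd_card_fittingOf (hp : p.Prime) {H : Subgroup G} (h : pCoreOf p H = ⊥) :
    ¬ p ∣ 𝐨(fittingOf H) := by
  rw [← (isSyl_pCoreOf_of_isNilpotent hp (H2.isNilpotent_fittingOf H)).eq_bot_iff hp,
    pCoreOf_fittingOf hp, h]

/-- If `O_{p'}(H) = 1` then `O_{p'}(H / Φ(O_p(H))) = 1`. -/
theorem pPrimeCoreOf_bar_frattini (hp : p.Prime) {H Y : Subgroup G} (hH : H ≤ Y)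
    [((𝚽(pCoreOf p H)).subgroupOf Y).Normal] (hs : Group.IsSolvable H)
    (h : H2.pPrimeCoreOf p H = ⊥) :
    H2.pPrimeCoreOf p (H1.bar Y 𝚽(pCoreOf p H) H) = ⊥ := by
  set V := pCoreOf p H
  have hV := pCoreOf_normal p H
  have hT := unbar_normal ((frattini_le V).trans hV.1) hH (pPrimeCoreOf_normal p _)
  obtain ⟨D, hD⟩ := exists_hall (H1.isSolvable_of_le hT.1 hs) {p}ᶜ
  have hc := H2.coprime_card_pPrimeCoreOf p (H1.bar Y 𝚽(V) H)
  have e := bar_eq_of_hall_unbar ((isPi_compl_singleton_iff hp).mpr hc) hD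
  have hDH : D ≤ H := hD.1.trans hT.1
  have hDp : 𝐨(D).Coprime p := (isPi_compl_singleton_iff hp).mp (hall_isPi hD)
  have hDV : 𝐨(D).Coprime 𝐨(V) :=
    have := Fact.mk hp
    H1.coprime_card_of_isPGroup (H2.isPGroup_pCoreOf p H) hDp
  have h1 : H1.bar Y 𝚽(V) V ≤ 𝐂(H1.bar Y 𝚽(V) D) := by
    rw [e]
    refine le_cent_of_norm_of_coprime ((H1.bar_mono hV.1).trans (pPrimeCoreOf_normal p _).2)
      ((pPrimeCoreOf_normal p _).1.trans (H1.bar_le_normalizer hV.2)) ?_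
    have := Fact.mk hp
    exact H1.coprime_card_of_isPGroup (H1.isPGroup_bar (H2.isPGroup_pCoreOf p H)) hc
  rw [H1.bar_le_centralizer_iff (hV.1.trans hH) (hDH.trans hH)] at h1
  have h2 := H1.le_centralizer_of_commutator_le_frattini (hDH.trans hV.2) hDV h1
  have h3 : D = ⊥ := by
    rw [← H1.inf_eq_bot_of_coprime' hDV, left_eq_inf]
    exact (le_inf hDH h2).trans (cent_pCoreOf_le hp hs h)
  rw [← e, h3, H1.bar_eq_bot_iff bot_le]
  exact bot_le

/-- Two nontrivial subgroups of a cyclic `p`-group intersect. -/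
theorem inf_ne_bot_of_isCyclic (hp : p.Prime) {C A B : Subgroup G} (hc : IsCyclic C)
    (hC : IsPGroup p C) (hA : A ≤ C) (hB : B ≤ C) (hA1 : A ≠ ⊥) (hB1 : B ≠ ⊥) : A ⊓ B ≠ ⊥ := by
  obtain ⟨X, hX, hXp⟩ := exists_le_card_eq_prime hp
    (prime_dvd_card_of_isPGroup hp (hC.to_le hA) hA1)
  obtain ⟨Z, hZ, hZp⟩ := exists_le_card_eq_prime hp
    (prime_dvd_card_of_isPGroup hp (hC.to_le hB) hB1)
  have e := eq_of_card_prime_of_isCyclic hp hc (hX.trans hA) (hZ.trans hB) hXp hZp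
  intro h
  exact ne_bot_of_card_prime (hXp ▸ hp) (eq_bot_iff.mpr (h ▸ le_inf hX (e ▸ hZ)))

theorem isCyclic_of_le_isZGroup (hp : p.Prime) {P H : Subgroup G} (hZ : IsZGroup H)
    (hP : IsPGroup p P) (h : P ≤ H) : IsCyclic P := by
  obtain ⟨T, hT, hle⟩ := exists_isSyl_ge hp hP h
  exact isCyclic_of_le hle (isZGroup_iff_isSyl.mp hZ p hp T hT)

theorem isZGroup_of_le {K H : Subgroup G} (h : K ≤ H) (hZ : IsZGroup H) : IsZGroup K :=
  isZGroup_iff_isSyl.mpr fun _ hp _ hP => isCyclic_of_le_isZGroup hp hZ hP.pgrp (hP.le.trans h)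

end Cfsg.Agent.FT
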